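import Groth.Agent.NormSp.Aff2
import Groth.Agent.AlgSpDec.LimOpen
import Groth.Agent.AlgSpDec.LqfSplitShrink

/-!
# A finite open and closed piece embeds into the normalization
-/

set_option autoImplicit false
set_option backward.isDefEq.respectTransparency false
set_option backward.isDefEq.respectTransparency.types false

universe u

open CategoryTheory CategoryTheory.Limits AlgebraicGeometry Opposite AlgSp Groth.Agent.AlgSpLib
  Groth.Agent.AlgSpDec

namespace Groth.Agent.NormSp

variable {S : Scheme.{u}}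

theorem map_yon_schemeHomeo {Y : Sp S} {W : Over S} (b : (yon S).obj W ⟶ Y) (w : ↥W.left) :
    Points.map b (Points.schemeHomeo W w) = Points.ofPt b w := by
  change Points.map b (Points.ofPt (𝟙 _) w) = _
  rw [Points.map_ofPt, Category.id_comp]

/-- An open immersion factors a point of the source of a chart. -/
theorem ofPt_mem_range_iff {F G : Sp S} {j : F ⟶ G} {T A : Over S} {a : (yon S).obj T ⟶ G}
    {fst : (yon S).obj A ⟶ F} {pA : A ⟶ T} (sq : IsPullback fst ((yon S).map pA) j a) (t : ↥T.left) :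
    Points.ofPt a t ∈ Set.range (Points.map j) ↔ t ∈ Set.range pA.left := by
  constructor
  · rintro ⟨z, hz⟩
    obtain ⟨z', -, hz'⟩ := exists_point_of_isPullback sq (x := z) (y := Points.schemeHomeo T t)
      (hz.trans (map_yon_schemeHomeo a t).symm)
    obtain ⟨w, rfl⟩ := (Points.schemeHomeo A).surjective z'
    exact ⟨w, (Points.schemeHomeo T).injective ((Points.map_yon_map_apply _ _).symm.trans hz')⟩
  · rintro ⟨w, rfl⟩
    exact ⟨Points.map fst (Points.schemeHomeo A w), by
      rw [← Points.map_comp, sq.w, map_yon_schemeHomeo, ofPt_comp]⟩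

/-- An open and closed piece which is finite over an affine base is open in the normalization. -/
theorem open_clopen_norm {P : Sp S} (hP : IsAlgSpace P) {U V N : Over S} [IsAffine U.left]
    {π : P ⟶ (yon S).obj U} (hqc : IsQuasiCompactMor π) (hqs : IsQuasiSeparatedMor π) {ν : N ⟶ U}
    {fN : P ⟶ (yon S).obj N} (hn : IsRelNormalization π ((yon S).map ν) fN) {k : V ⟶ U} [IsFinite k.left]
    {jV : (yon S).obj V ⟶ P} (ho : RepWith @IsOpenImmersion jV) (hc : RepWith @IsClosedImmersion jV)
    (hk : jV ≫ π = (yon S).map k) :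
    RepWith @IsOpenImmersion (jV ≫ fN) ∧ IsPullback jV (𝟙 _) fN (jV ≫ fN) := by
  obtain ⟨V₀, W, Q, a, v, ω, r₁, r₂, h⟩ := exists_pres hP hqc hqs
  have := h.epi
  have hjm : Mono jV := mono_of_openImm ho
  -- the open and closed part of the atlas
  let A := ho.rep.pullback a
  let pA : A ⟶ V₀ := ho.rep.snd a
  obtain ⟨sA, hsA⟩ := (yon S).map_surjective (ho.rep.fst a)
  have sqA : IsPullback ((yon S).map sA) ((yon S).map pA) jV a := by
    rw [hsA]; exact ho.rep.isPullback a
  have : IsOpenImmersion pA.left := ho.property_snd a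
  have : IsClosedImmersion pA.left := hc.property _ _ _ sqA
  let OB : V₀.left.Opens := ⟨(pA.left.opensRange : Set ↥V₀.left)ᶜ, pA.left.isClosedEmbedding.isClosed_range.isOpen_compl⟩
  let B : Over S := Over.mk (OB.ι ≫ V₀.hom)
  let pB : B ⟶ V₀ := CategoryTheory.Over.homMk OB.ι rfl
  have : IsOpenImmersion pB.left := inferInstanceAs (IsOpenImmersion OB.ι)
  have hcompl : IsCompl pA.left.opensRange OB.ι.opensRange := by
    rw [Scheme.Opens.opensRange_ι, isCompl_iff, disjoint_iff, codisjoint_iff]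
    constructor
    · ext x; simp [OB]
    · ext x; simp [OB]
  obtain ⟨H⟩ := nonempty_isColimit_binaryCofanMk_of_isCompl pA.left OB.ι hcompl
  have hav : (yon S).map (pA ≫ v) = (yon S).map (sA ≫ k) := by
    rw [Functor.map_comp, Functor.map_comp, ← h.ha, ← hk, reassoc_of% sqA.w]
  have hpv : pA.left ≫ v.left = sA.left ≫ k.left := congrArg (fun l : A ⟶ U => l.left) ((yon S).map_injective hav)
  -- the candidate
  let Z : Over S := Over.mk (coprod.desc V.hom U.hom)
  let i₁ : V ⟶ Z := CategoryTheory.Over.homMk coprod.inl (coprod.inl_desc _ _)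
  let i₂ : U ⟶ Z := CategoryTheory.Over.homMk coprod.inr (coprod.inr_desc _ _)
  let ζ : Z ⟶ U := CategoryTheory.Over.homMk (coprod.desc k.left (𝟙 _)) (by
    apply coprod.hom_ext
    · rw [coprod.inl_desc_assoc, Over.w k]; exact (coprod.inl_desc _ _).symm
    · rw [coprod.inr_desc_assoc, Category.id_comp]; exact (coprod.inr_desc _ _).symm)
  have hζ : IsIntegralHom ζ.left := by
    have : IsFinite (coprod.desc k.left (𝟙 U.left)) := inferInstance
    exact inferInstanceAs (IsIntegralHom (coprod.desc k.left (𝟙 U.left)))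
  let k₀' : V₀.left ⟶ Z.left := H.desc (BinaryCofan.mk (sA.left ≫ coprod.inl) (OB.ι ≫ v.left ≫ coprod.inr))
  have hk₀A : pA.left ≫ k₀' = sA.left ≫ coprod.inl := H.fac _ ⟨WalkingPair.left⟩
  have hk₀B : OB.ι ≫ k₀' = OB.ι ≫ v.left ≫ coprod.inr := H.fac _ ⟨WalkingPair.right⟩
  have hk₀ζ : k₀' ≫ coprod.desc k.left (𝟙 U.left) = v.left := BinaryCofan.IsColimit.hom_ext H
    (by
      show pA.left ≫ _ = pA.left ≫ _
      rw [reassoc_of% hk₀A, coprod.inl_desc, hpv])
    (by
      show OB.ι ≫ _ = OB.ι ≫ _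
      rw [reassoc_of% hk₀B, coprod.inr_desc, Category.comp_id])
  let k₀ : V₀ ⟶ Z := CategoryTheory.Over.homMk k₀' (by
    show k₀' ≫ Z.hom = V₀.hom
    rw [← Over.w ζ, ← Category.assoc, show k₀' ≫ ζ.left = v.left from hk₀ζ, Over.w v])
  have hagree : (ω ≫ r₁) ≫ k₀ = (ω ≫ r₂) ≫ k₀ := by
    let x := ω ≫ r₁
    let y := ω ≫ r₂
    have hxy : (yon S).map x ≫ a = (yon S).map y ≫ a := by
      simp only [x, y, Functor.map_comp, Category.assoc, h.w]
    let OA : W.left.Opens := x.left ⁻¹ᵁ pA.left.opensRange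
    let OB' : W.left.Opens := x.left ⁻¹ᵁ OB
    have hmem : ∀ t, x.left t ∈ Set.range pA.left ↔ y.left t ∈ Set.range pA.left := fun t => by
      rw [← ofPt_mem_range_iff sqA, ← ofPt_mem_range_iff sqA, ← ofPt_comp, ← ofPt_comp, hxy]
    have hc' : IsCompl OA.ι.opensRange OB'.ι.opensRange := by
      rw [Scheme.Opens.opensRange_ι, Scheme.Opens.opensRange_ι, isCompl_iff, disjoint_iff, codisjoint_iff]
      constructor
      · ext t; simp [OA, OB', OB]
      · ext t; simp [OA, OB', OB]
    obtain ⟨H'⟩ := nonempty_isColimit_binaryCofanMk_of_isCompl OA.ι OB'.ι hc'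
    refine Over.OverMorphism.ext (BinaryCofan.IsColimit.hom_ext H' ?_ ?_)
    · let TA : Over S := Over.mk (OA.ι ≫ W.hom)
      let iT : TA ⟶ W := CategoryTheory.Over.homMk OA.ι rfl
      obtain ⟨xA, hxA⟩ := exists_factor_openImm pA (iT ≫ x) fun t => t.2
      obtain ⟨yA, hyA⟩ := exists_factor_openImm pA (iT ≫ y) fun t => (hmem _).1 t.2
      have e : (yon S).map (xA ≫ sA) ≫ jV = (yon S).map (yA ≫ sA) ≫ jV := by
        rw [Functor.map_comp, Functor.map_comp, Category.assoc, Category.assoc, sqA.w, ← Functor.map_comp_assoc,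
          ← Functor.map_comp_assoc, hxA, hyA, (yon S).map_comp iT x, (yon S).map_comp iT y, Category.assoc,
          Category.assoc, hxy]
      have e' : xA ≫ sA = yA ≫ sA := (yon S).map_injective ((cancel_mono jV).1 e)
      show iT.left ≫ x.left ≫ k₀' = iT.left ≫ y.left ≫ k₀'
      rw [← Category.assoc, ← Over.comp_left, ← hxA, Over.comp_left, Category.assoc, hk₀A, ← Category.assoc,
        ← Over.comp_left, e', Over.comp_left, Category.assoc, ← hk₀A, ← Category.assoc, ← Over.comp_left, hyA,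
        Over.comp_left, Category.assoc]
    · let TB : Over S := Over.mk (OB'.ι ≫ W.hom)
      let iT : TB ⟶ W := CategoryTheory.Over.homMk OB'.ι rfl
      obtain ⟨xB, hxB⟩ := exists_factor_openImm pB (iT ≫ x) fun t => ⟨⟨_, t.2⟩, rfl⟩
      obtain ⟨yB, hyB⟩ := exists_factor_openImm pB (iT ≫ y) fun t =>
        ⟨⟨_, fun h' => t.2 ((hmem _).2 h')⟩, rfl⟩
      have ev : x ≫ v = y ≫ v := (yon S).map_injective (by
        rw [(yon S).map_comp x v, (yon S).map_comp y v, ← h.ha, ← Category.assoc, hxy, Category.assoc])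
      have hB : pB.left ≫ k₀' = pB.left ≫ v.left ≫ coprod.inr := hk₀B
      show iT.left ≫ x.left ≫ k₀' = iT.left ≫ y.left ≫ k₀'
      rw [← Category.assoc, ← Over.comp_left, ← hxB, Over.comp_left, Category.assoc, hB, ← Category.assoc,
        ← Over.comp_left, hxB, Over.comp_left, Category.assoc, ← Category.assoc x.left v.left, ← Over.comp_left,
        ev, Over.comp_left, Category.assoc, ← Category.assoc iT.left, ← Over.comp_left, ← hyB, Over.comp_left,
        Category.assoc, ← hB, ← Category.assoc, ← Over.comp_left, hyB, Over.comp_left, Category.assoc]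
  obtain ⟨g, hg⟩ := h.exists_desc k₀ hagree
  have hgζ : g ≫ (yon S).map ζ = π := by
    rw [← cancel_epi a, ← Category.assoc, hg, ← Functor.map_comp, h.ha]
    exact congrArg _ (Over.OverMorphism.ext hk₀ζ)
  have hjg : jV ≫ g = (yon S).map i₁ := by
    have : Epi ((yon S).map sA) :=
      epi_of_etale_surjective (repWith_of_isPullback sqA.flip h.etale) (repWith_of_isPullback sqA.flip h.surj)
    rw [← cancel_epi ((yon S).map sA), reassoc_of% sqA.w, hg, ← Functor.map_comp, ← Functor.map_comp]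
    exact congrArg _ (Over.OverMorphism.ext hk₀A)
  -- the map out of the normalization
  obtain ⟨hz', ⟨hz₁, hz₂⟩, -⟩ := hn.2.2 (IsAlgSpace.yon_obj Z) ((yon S).map ζ) g
    (isIntegralMor_iff_repWith.2 ((repWith_yon_map_iff @IsIntegralHom ζ).2 hζ)) hgζ
  obtain ⟨hz, rfl⟩ := (yon S).map_surjective hz'
  obtain ⟨fV, hfV⟩ := (yon S).map_surjective (jV ≫ fN)
  obtain ⟨n, hnN⟩ := (yon S).map_surjective (a ≫ fN)
  have hzν : hz.left ≫ coprod.desc k.left (𝟙 U.left) = ν.left :=
    congrArg (fun l : N ⟶ U => l.left) ((yon S).map_injective (by rw [Functor.map_comp]; exact hz₂) : hz ≫ ζ = ν)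
  have hfVz : fV.left ≫ hz.left = coprod.inl :=
    congrArg (fun l : V ⟶ Z => l.left) ((yon S).map_injective (by
      rw [Functor.map_comp, hfV, Category.assoc, hz₁, hjg]) : fV ≫ hz = i₁)
  have hnz : n.left ≫ hz.left = k₀' :=
    congrArg (fun l : V₀ ⟶ Z => l.left) ((yon S).map_injective (by
      rw [Functor.map_comp, hnN, Category.assoc, hz₁, hg]) : n ≫ hz = k₀)
  have hnA : pA.left ≫ n.left = sA.left ≫ fV.left :=
    congrArg (fun l : A ⟶ N => l.left) ((yon S).map_injective (by
      rw [Functor.map_comp, Functor.map_comp, hnN, hfV, reassoc_of% sqA.w]) : pA ≫ n = sA ≫ fV)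
  let G : N.left.Opens := hz.left ⁻¹ᵁ (coprod.inl : V.left ⟶ V.left ⨿ U.left).opensRange
  let G' : N.left.Opens := hz.left ⁻¹ᵁ (coprod.inr : U.left ⟶ V.left ⨿ U.left).opensRange
  have hGG : IsCompl G.ι.opensRange G'.ι.opensRange := by
    have h0 := isCompl_range_inl_inr V.left U.left
    rw [Scheme.Opens.opensRange_ι, Scheme.Opens.opensRange_ι, isCompl_iff, disjoint_iff, codisjoint_iff]
    constructor
    · ext t
      simp only [G, G', TopologicalSpace.Opens.coe_inf, TopologicalSpace.Opens.coe_bot, Set.mem_inter_iff,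
        Set.mem_empty_iff_false, iff_false, not_and]
      exact fun h₁ h₂ => Set.disjoint_iff.1 h0.1 ⟨h₁, h₂⟩
    · ext t
      simp only [G, G', TopologicalSpace.Opens.coe_sup, TopologicalSpace.Opens.coe_top, Set.mem_union, Set.mem_univ,
        iff_true]
      exact h0.2.eq_top.ge (Set.mem_univ (hz.left t))
  obtain ⟨HN⟩ := nonempty_isColimit_binaryCofanMk_of_isCompl G.ι G'.ι hGG
  have hsubG : Set.range (G.ι ≫ hz.left) ⊆ Set.range (coprod.inl : V.left ⟶ V.left ⨿ U.left) := by
    rintro _ ⟨t, rfl⟩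
    exact t.2
  let toV : G.toScheme ⟶ V.left := IsOpenImmersion.lift coprod.inl (G.ι ≫ hz.left) hsubG
  have htoV : toV ≫ coprod.inl = G.ι ≫ hz.left := IsOpenImmersion.lift_fac _ _ _
  have hsubV : Set.range fV.left ⊆ Set.range G.ι := by
    rw [Scheme.Opens.range_ι]
    rintro _ ⟨t, rfl⟩
    exact ⟨t, by rw [← Scheme.Hom.comp_apply, hfVz]; rfl⟩
  let fV' : V.left ⟶ G.toScheme := IsOpenImmersion.lift G.ι fV.left hsubV
  have hfV' : fV' ≫ G.ι = fV.left := IsOpenImmersion.lift_fac _ _ _
  have hVV : fV' ≫ toV = 𝟙 _ := by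
    rw [← cancel_mono (coprod.inl : V.left ⟶ V.left ⨿ U.left), Category.assoc, htoV, reassoc_of% hfV', hfVz,
      Category.id_comp]
  let φ' : N.left ⟶ N.left := HN.desc (BinaryCofan.mk (toV ≫ fV.left) G'.ι)
  have hφG : G.ι ≫ φ' = toV ≫ fV.left := HN.fac _ ⟨WalkingPair.left⟩
  have hφG' : G'.ι ≫ φ' = G'.ι := HN.fac _ ⟨WalkingPair.right⟩
  have hfVν : fV.left ≫ ν.left = k.left := by
    rw [← hzν, reassoc_of% hfVz, coprod.inl_desc]
  have hφν : φ' ≫ ν.left = ν.left := BinaryCofan.IsColimit.hom_ext HN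
    (by
      show G.ι ≫ _ = G.ι ≫ _
      rw [reassoc_of% hφG, hfVν, ← hzν, ← reassoc_of% htoV, coprod.inl_desc])
    (by
      show G'.ι ≫ _ = G'.ι ≫ _
      rw [reassoc_of% hφG'])
  let φ : N ⟶ N := CategoryTheory.Over.homMk φ' (by rw [← Over.w ν, ← Category.assoc, hφν])
  have hnφ : n.left ≫ φ' = n.left := BinaryCofan.IsColimit.hom_ext H
    (by
      show pA.left ≫ _ = pA.left ≫ _
      rw [reassoc_of% hnA, hnA]
      congr 1
      rw [← hfV', Category.assoc, hφG, reassoc_of% hVV, hfV'])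
    (by
      show OB.ι ≫ _ = OB.ι ≫ _
      have hsub : Set.range (OB.ι ≫ n.left) ⊆ Set.range G'.ι := by
        rw [Scheme.Opens.range_ι]
        rintro _ ⟨t, rfl⟩
        refine ⟨v.left (OB.ι t), ?_⟩
        rw [← Scheme.Hom.comp_apply, ← Scheme.Hom.comp_apply, ← Scheme.Hom.comp_apply (OB.ι ≫ n.left), Category.assoc,
          hnz, hk₀B]
        rfl
      rw [← Category.assoc, ← IsOpenImmersion.lift_fac G'.ι (OB.ι ≫ n.left) hsub, Category.assoc, hφG'])
  have hfNφ : fN ≫ (yon S).map φ = fN := by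
    rw [← cancel_epi a, ← Category.assoc, ← hnN, ← Functor.map_comp]
    exact congrArg _ (Over.OverMorphism.ext hnφ)
  have hφid : φ = 𝟙 N := by
    obtain ⟨l, -, hl⟩ := hn.2.2 (IsAlgSpace.yon_obj N) ((yon S).map ν) fN hn.2.1 hn.1
    apply (yon S).map_injective
    rw [hl _ ⟨hfNφ, by rw [← Functor.map_comp]; exact congrArg _ (Over.OverMorphism.ext hφν)⟩,
      hl ((yon S).map (𝟙 N)) ⟨by simp, by simp⟩]
  have hGfV : toV ≫ fV' = 𝟙 _ := by
    have e : φ' = 𝟙 _ := congrArg (fun l : N ⟶ N => l.left) hφid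
    rw [← cancel_mono G.ι, Category.assoc, hfV', ← hφG, e, Category.comp_id, Category.id_comp]
  have : IsIso fV' := ⟨toV, hVV, hGfV⟩
  have hfVo : IsOpenImmersion fV.left := by
    rw [← hfV']; infer_instance
  have hfVr : RepWith @IsOpenImmersion ((yon S).map fV) := (repWith_yon_map_iff _ fV).2 hfVo
  rw [← hfV]
  refine ⟨hfVr, ?_⟩
  have hw : jV ≫ fN = 𝟙 _ ≫ (yon S).map fV := by rw [Category.id_comp, hfV]
  -- the piece is the inverse image
  let PG := pullback fN ((yon S).map fV)
  have hPG : IsAlgSpace PG := isAlgSpace_of_isPullback (IsPullback.of_hasPullback fN ((yon S).map fV)) hP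
    (IsAlgSpace.yon_obj V) (IsAlgSpace.yon_obj N)
  let J := pullback.snd jV (pullback.fst fN ((yon S).map fV))
  have hJ : RepWith @IsOpenImmersion J := repWith_snd _ ho
  have hJs : Function.Surjective (Points.map J) := fun z => by
    have hzr : Points.map (pullback.fst fN ((yon S).map fV)) z ∈ Set.range (Points.map jV) := by
      obtain ⟨v₀, hv₀⟩ := surjective_ofPt h.surj (Points.map (pullback.fst fN ((yon S).map fV)) z)
      rw [← hv₀, ofPt_mem_range_iff sqA]
      obtain ⟨t, ht⟩ := (Points.schemeHomeo V).surjective (Points.map (pullback.snd fN ((yon S).map fV)) z)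
      have e : n.left v₀ = fV.left t := by
        apply (Points.schemeHomeo N).injective
        rw [← Points.map_yon_map_apply, hnN, map_yon_schemeHomeo, ← Points.map_ofPt, hv₀, ← Points.map_comp,
          pullback.condition, Points.map_comp, ← ht, Points.map_yon_map_apply]
      by_contra hnot
      have h₁ : hz.left (n.left v₀) = (coprod.inr : U.left ⟶ V.left ⨿ U.left) (v.left v₀) := by
        have := congrArg (fun l : B.left ⟶ Z.left => l ⟨v₀, hnot⟩) hk₀B
        rw [← hnz] at this
        exact this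
      have h₂ : hz.left (fV.left t) = (coprod.inl : V.left ⟶ V.left ⨿ U.left) t := by
        rw [← Scheme.Hom.comp_apply, hfVz]
        rfl
      rw [e, h₂] at h₁
      exact inl_ne_inr V.left U.left _ _ h₁
    obtain ⟨y, hy⟩ := hzr
    obtain ⟨w, -, hw⟩ := exists_point_of_isPullback (IsPullback.of_hasPullback jV (pullback.fst fN ((yon S).map fV))) hy
    exact ⟨w, hw⟩
  have : IsIso J := isIso_of_openImm_surjective hPG hJ hJs
  have : Mono ((yon S).map fV) := mono_of_openImm hfVr
  have hfst : pullback.fst fN ((yon S).map fV) = pullback.snd fN ((yon S).map fV) ≫ jV := by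
    have e1 : pullback.fst fN ((yon S).map fV) = (inv J ≫ pullback.fst _ _) ≫ jV := by
      rw [Category.assoc, pullback.condition, IsIso.inv_hom_id_assoc]
    have e2 : inv J ≫ pullback.fst jV (pullback.fst fN ((yon S).map fV)) = pullback.snd fN ((yon S).map fV) := by
      rw [← cancel_mono ((yon S).map fV)]
      refine Eq.trans (congrArg (fun l => (inv J ≫ pullback.fst jV (pullback.fst fN ((yon S).map fV))) ≫ l) hfV) ?_
      refine Eq.trans ?_ pullback.condition
      rw [← Category.assoc]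
      exact congrArg (· ≫ fN) e1.symm
    rw [e2] at e1
    exact e1
  exact IsPullback.of_iso_pullback ⟨hw⟩
    ⟨pullback.lift jV (𝟙 _) hw, pullback.snd _ _, pullback.lift_snd _ _ _, by
      apply pullback.hom_ext
      · rw [Category.assoc, pullback.lift_fst, Category.id_comp, ← hfst]
      · rw [Category.assoc, pullback.lift_snd, Category.comp_id, Category.id_comp]⟩
    (pullback.lift_fst _ _ _) (pullback.lift_snd _ _ _)

end Groth.Agent.NormSp
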