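import Groth.Agent.NormSp.Aff2
import Groth.Agent.AlgSpDec.HomDescent
import Groth.Agent.AlgSpLib.LocP
import Groth.Agent.AlgSpDec.Glue

/-!
# Stable normalizations are normalizations, and are local on the base
-/

set_option autoImplicit false
set_option backward.isDefEq.respectTransparency false
set_option backward.isDefEq.respectTransparency.types false

universe u

open CategoryTheory CategoryTheory.Limits AlgebraicGeometry Opposite AlgSp Groth.Agent.AlgSpLib

namespace Groth.Agent.NormSp

variable {S : Scheme.{u}} {P X X' : Sp S} {π : P ⟶ X} {ν : X' ⟶ X} {f' : P ⟶ X'}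

theorem smooth_of_etale {F G : Sp S} {f : F ⟶ G} (h : RepWith @Etale f) : RepWith @Smooth f :=
  repWith_mono (fun _ _ e (_ : Etale e) => inferInstanceAs (Smooth e)) _ h

/-- The map to the pulled back candidate. -/
noncomputable def pullMap (hw : f' ≫ ν = π) {Y : Sp S} (y : Y ⟶ X) : pullback π y ⟶ pullback ν y :=
  pullback.lift (pullback.fst π y ≫ f') (pullback.snd π y) (by rw [Category.assoc, hw, pullback.condition])

theorem IsUN.pull (h : IsUN π ν f') {Y : Sp S} (y : Y ⟶ X) (hy : RepWith @Smooth y) :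
    IsUN (pullback.snd π y) (pullback.snd ν y) (pullMap h.fac y) :=
  h.baseChange y hy (IsPullback.of_hasPullback π y) (IsPullback.of_hasPullback ν y) (pullback.lift_snd _ _ _)
    (pullback.lift_fst _ _ _)

theorem IsUN.norm_affine {U : Over S} {π : P ⟶ (yon S).obj U} {ν : X' ⟶ (yon S).obj U} {f' : P ⟶ X'}
    (h : IsUN π ν f') (hU : IsAffine U.left) : IsRelNormalization π ν f' :=
  h.bc hU (𝟙 _) (repWith_of_isIso _ _) (𝟙 P) π (𝟙 X') ν f' (IsPullback.of_horiz_isIso ⟨by simp⟩)
    (IsPullback.of_horiz_isIso ⟨by simp⟩) h.fac (by simp)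

/-- An algebraic space has an etale covering by affine schemes. -/
theorem exists_etale_affine_cover (hX : IsAlgSpace X) :
    ∃ (ι : Type u) (W : ι → Over S) (w : ∀ i, (yon S).obj (W i) ⟶ X), (∀ i, IsAffine (W i).left) ∧
      (∀ i, RepWith @Etale (w i)) ∧ ∀ x, ∃ i v, Points.ofPt (w i) v = x := by
  obtain ⟨U, p, he, hs⟩ := hX.atlas
  refine ⟨U.left.affineOpens, fun V => Over.mk (V.1.ι ≫ U.hom), fun V =>
    (yon S).map (Over.homMk V.1.ι rfl) ≫ p, fun V => V.2,
    fun V => repWith_comp ((repWith_yon_map_iff _ _).2 (inferInstanceAs (Etale V.1.ι))) he, fun x => ?_⟩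
  obtain ⟨u, rfl⟩ := surjective_ofPt hs x
  obtain ⟨V, hV, hu, -⟩ := exists_isAffineOpen_mem_and_subset (U := (⊤ : U.left.Opens)) (x := u) trivial
  exact ⟨⟨V, hV⟩, ⟨u, hu⟩, by rw [ofPt_comp]; rfl⟩

/-- A morphism that is a stable normalization on an etale covering by affine schemes is a normalization. -/
theorem isRelNormalization_of_cover (hX : IsAlgSpace X) (hfac : f' ≫ ν = π) (hν : IsIntegralMor ν) {ι : Type u}
    (W : ι → Over S) (w : ∀ i, (yon S).obj (W i) ⟶ X) (hW : ∀ i, IsAffine (W i).left)
    (hwe : ∀ i, RepWith @Etale (w i)) (hws : ∀ x, ∃ i v, Points.ofPt (w i) v = x)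
    (hUN : ∀ i, IsUN (pullback.snd π (w i)) (pullback.snd ν (w i)) (pullMap hfac (w i))) :
    IsRelNormalization π ν f' := by
  have hνr := AlgSpDec.isIntegralMor_iff_repWith.1 hν
  have hX' : IsAlgSpace X' := isAlgSpace_of_representable ν hνr.rep hX
  refine ⟨hfac, hν, fun Z hZ p g hp hg => ?_⟩
  have hpr := AlgSpDec.isIntegralMor_iff_repWith.1 hp
  have uniq : ∀ {T : Over S} (t : (yon S).obj T ⟶ X) (fT : pullback π t ⟶ pullback ν t),
      IsRelNormalization (pullback.snd π t) (pullback.snd ν t) fT →
      ∀ H H' : pullback ν t ⟶ Z, H ≫ p = pullback.fst ν t ≫ ν → H' ≫ p = pullback.fst ν t ≫ ν →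
        fT ≫ H = pullback.fst π t ≫ g → fT ≫ H' = pullback.fst π t ≫ g → H = H' := by
    intro T t fT hn H H' hH hH' hfH hfH'
    obtain ⟨k, -, hk⟩ := hn.2.2 (isAlgSpace_pullback hZ (IsAlgSpace.yon_obj T) hX p t) (pullback.snd p t)
      (pullback.lift (pullback.fst π t ≫ g) (pullback.snd π t) (by rw [Category.assoc, hg, pullback.condition]))
      (AlgSpDec.isIntegralMor_iff_repWith.2 (repWith_snd t hpr)) (pullback.lift_snd _ _ _)
    have l₁ := hk (pullback.lift H (pullback.snd ν t) (by rw [hH, pullback.condition]))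
      ⟨by
        apply pullback.hom_ext
        · rw [Category.assoc, pullback.lift_fst, pullback.lift_fst, hfH]
        · rw [Category.assoc, pullback.lift_snd, pullback.lift_snd, hn.1], pullback.lift_snd _ _ _⟩
    have l₂ := hk (pullback.lift H' (pullback.snd ν t) (by rw [hH', pullback.condition]))
      ⟨by
        apply pullback.hom_ext
        · rw [Category.assoc, pullback.lift_fst, pullback.lift_fst, hfH']
        · rw [Category.assoc, pullback.lift_snd, pullback.lift_snd, hn.1], pullback.lift_snd _ _ _⟩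
    simpa using congrArg (· ≫ pullback.fst p t) (l₁.trans l₂.symm)
  have hloc : ∀ i, ∃ H : pullback ν (w i) ⟶ Z, H ≫ p = pullback.fst ν (w i) ≫ ν ∧
      pullMap hfac (w i) ≫ H = pullback.fst π (w i) ≫ g := by
    intro i
    obtain ⟨k, ⟨hk₁, hk₂⟩, -⟩ := ((hUN i).norm_affine (hW i)).2.2
      (isAlgSpace_pullback hZ (IsAlgSpace.yon_obj (W i)) hX p (w i)) (pullback.snd p (w i))
      (pullback.lift (pullback.fst π (w i) ≫ g) (pullback.snd π (w i))
        (by rw [Category.assoc, hg, pullback.condition]))
      (AlgSpDec.isIntegralMor_iff_repWith.2 (repWith_snd _ hpr)) (pullback.lift_snd _ _ _)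
    refine ⟨k ≫ pullback.fst p (w i), ?_, ?_⟩
    · rw [Category.assoc, pullback.condition, ← Category.assoc, hk₂, pullback.condition]
    · rw [← Category.assoc, hk₁, pullback.lift_fst]
  choose H hHp hHg using hloc
  have hXi : ∀ i, IsAlgSpace (pullback ν (w i)) := fun i => isAlgSpace_pullback hX' (IsAlgSpace.yon_obj _) hX _ _
  have hqe : ∀ i, RepWith @Etale (pullback.fst ν (w i)) := fun i => repWith_fst ν (hwe i)
  have hcov : IsFppfCover (fun i => pullback ν (w i)) (fun i => pullback.fst ν (w i)) := by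
    refine ⟨fun i => ⟨?_, ?_⟩, fun x => ?_⟩
    · exact locP_mono (P := @Etale) (Q := @Flat) (fun _ _ f (_ : Etale f) => inferInstanceAs (Flat f))
        (locP_of_repWith (hqe i))
    · exact locP_mono (P := @Etale) (Q := @LocallyOfFinitePresentation)
        (fun _ _ f (_ : Etale f) => inferInstanceAs (LocallyOfFinitePresentation f)) (locP_of_repWith (hqe i))
    · obtain ⟨i, v, hv⟩ := hws (Points.map ν x)
      rw [Points.ofPt_eq_map_ofScheme] at hv
      obtain ⟨z, hz, -⟩ := exists_point_of_isPullback (IsPullback.of_hasPullback ν (w i)) hv.symm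
      exact ⟨i, z, hz⟩
  have hagree : ∀ (i j : ι) (T : Over S) (a : (yon S).obj T ⟶ pullback ν (w i))
      (b : (yon S).obj T ⟶ pullback ν (w j)),
      a ≫ pullback.fst ν (w i) = b ≫ pullback.fst ν (w j) → a ≫ H i = b ≫ H j := by
    intro i j T a b hab
    let O := (hwe i).rep.pullback (w j)
    let oi : O ⟶ W i := (hwe i).rep.fst' (w j)
    let oj : O ⟶ W j := (hwe i).rep.snd (w j)
    have sqO : IsPullback ((yon S).map oi) ((yon S).map oj) (w i) (w j) := (hwe i).rep.isPullback' (w j)
    have hoi : Etale oi.left := (hwe j).property _ _ _ sqO.flip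
    obtain ⟨ti, hti⟩ := (yon S).map_surjective (a ≫ pullback.snd ν (w i))
    obtain ⟨tj, htj⟩ := (yon S).map_surjective (b ≫ pullback.snd ν (w j))
    obtain ⟨τ, hτ₁, hτ₂⟩ := sqO.exists_lift ((yon S).map ti) ((yon S).map tj) (by
      rw [hti, htj, Category.assoc, Category.assoc, ← pullback.condition, ← pullback.condition,
        reassoc_of% hab])
    obtain ⟨τ, rfl⟩ := (yon S).map_surjective τ
    let 𝒰 : T.left.OpenCover := (O.left.openCoverOfIsOpenCover (fun V : O.left.affineOpens => V.1)
      (TopologicalSpace.IsOpenCover.mk (iSup_affineOpens_eq_top _))).pullback₁ τ.left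
    refine AlgSpDec.hom_ext_of_openCover 𝒰 _ _ fun k => ?_
    let Ok : Over S := Over.mk (k.1.ι ≫ O.hom)
    let ιk : Ok ⟶ O := Over.homMk k.1.ι rfl
    let Tk : Over S := Over.mk (𝒰.f k ≫ T.hom)
    let inc : Tk ⟶ T := Over.homMk (𝒰.f k) rfl
    let c : Tk ⟶ Ok := Over.homMk (pullback.snd τ.left k.1.ι) (by
      show _ ≫ k.1.ι ≫ O.hom = pullback.fst τ.left k.1.ι ≫ T.hom
      rw [← pullback.condition_assoc, Over.w τ])
    have hc : c ≫ ιk = inc ≫ τ := Over.OverMorphism.ext (pullback.condition.symm)
    have : IsAffine Ok.left := k.2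
    let wk : (yon S).obj Ok ⟶ X := (yon S).map (ιk ≫ oi) ≫ w i
    have hwk : wk = (yon S).map (ιk ≫ oj) ≫ w j := by
      simp only [wk, Functor.map_comp, Category.assoc, sqO.w]
    let mi : pullback ν wk ⟶ pullback ν (w i) := pullback.lift (pullback.fst ν wk)
      (pullback.snd ν wk ≫ (yon S).map (ιk ≫ oi)) (by rw [Category.assoc]; exact pullback.condition)
    let mj : pullback ν wk ⟶ pullback ν (w j) := pullback.lift (pullback.fst ν wk)
      (pullback.snd ν wk ≫ (yon S).map (ιk ≫ oj)) (by rw [Category.assoc, ← hwk]; exact pullback.condition)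
    let l : (yon S).obj Tk ⟶ pullback ν wk := pullback.lift ((yon S).map inc ≫ a ≫ pullback.fst ν (w i))
      ((yon S).map c) (by
        simp only [wk, Category.assoc]
        rw [← Functor.map_comp_assoc, ← Category.assoc c, hc, Category.assoc, pullback.condition, ← reassoc_of% hti,
          ← reassoc_of% hτ₁]
        simp only [Functor.map_comp, Category.assoc])
    have hla : l ≫ mi = (yon S).map inc ≫ a := by
      apply pullback.hom_ext
      · simp only [l, mi, Category.assoc, pullback.lift_fst]
      · simp only [l, mi, Category.assoc, pullback.lift_snd, pullback.lift_snd_assoc]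
        rw [← hti, ← hτ₁, ← Functor.map_comp, ← Functor.map_comp, ← Functor.map_comp, ← Category.assoc c, hc,
          Category.assoc]
    have hlb : l ≫ mj = (yon S).map inc ≫ b := by
      apply pullback.hom_ext
      · simp only [l, mj, Category.assoc, pullback.lift_fst, hab]
      · simp only [l, mj, Category.assoc, pullback.lift_snd, pullback.lift_snd_assoc]
        rw [← htj, ← hτ₂, ← Functor.map_comp, ← Functor.map_comp, ← Functor.map_comp, ← Category.assoc c, hc,
          Category.assoc]
    have key : mi ≫ H i = mj ≫ H j := by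
      have hsm : RepWith @Smooth ((yon S).map (ιk ≫ oi)) := smooth_of_etale ((repWith_yon_map_iff _ _).2 (by
        rw [Over.comp_left]
        exact inferInstanceAs (Etale (k.1.ι ≫ oi.left))))
      let qi : pullback π wk ⟶ pullback π (w i) := pullback.lift (pullback.fst π wk)
        (pullback.snd π wk ≫ (yon S).map (ιk ≫ oi)) (by rw [Category.assoc]; exact pullback.condition)
      let qj : pullback π wk ⟶ pullback π (w j) := pullback.lift (pullback.fst π wk)
        (pullback.snd π wk ≫ (yon S).map (ιk ≫ oj)) (by rw [Category.assoc, ← hwk]; exact pullback.condition)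
      have hqi : pullMap hfac wk ≫ mi = qi ≫ pullMap hfac (w i) := by
        apply pullback.hom_ext <;> simp [pullMap, mi, qi]
      have hqj : pullMap hfac wk ≫ mj = qj ≫ pullMap hfac (w j) := by
        apply pullback.hom_ext <;> simp [pullMap, mj, qj]
      have hn := (hUN i).bc (W := Ok) k.2 ((yon S).map (ιk ≫ oi)) hsm qi (pullback.snd π wk) mi (pullback.snd ν wk)
        (pullMap hfac wk)
        (IsPullback.of_right (by rw [pullback.lift_fst]; exact IsPullback.of_hasPullback π wk)
          (pullback.lift_snd _ _ _) (IsPullback.of_hasPullback π (w i)))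
        (IsPullback.of_right (by rw [pullback.lift_fst]; exact IsPullback.of_hasPullback ν wk)
          (pullback.lift_snd _ _ _) (IsPullback.of_hasPullback ν (w i)))
        (pullback.lift_snd _ _ _) hqi
      refine uniq wk _ hn _ _ ?_ ?_ ?_ ?_
      · rw [Category.assoc, hHp, pullback.lift_fst_assoc]
      · rw [Category.assoc, hHp, pullback.lift_fst_assoc]
      · rw [← Category.assoc, hqi, Category.assoc, hHg, pullback.lift_fst_assoc]
      · rw [← Category.assoc, hqj, Category.assoc, hHg, pullback.lift_fst_assoc]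
    show (yon S).map inc ≫ a ≫ H i = (yon S).map inc ≫ b ≫ H j
    rw [← Category.assoc, ← hla, ← Category.assoc ((yon S).map inc), ← hlb, Category.assoc, Category.assoc, key]
  obtain ⟨h, hh⟩ := AlgSpDec.exists_desc_of_fppfCover hX' hXi hcov H hagree
  have hh₂ : h ≫ p = ν := AlgSpDec.hom_ext_of_fppfCover hX' hXi hcov fun i => by
    rw [← Category.assoc, hh, hHp]
  refine ⟨h, ⟨?_, hh₂⟩, fun l hl => AlgSpDec.hom_ext_of_fppfCover hX' hXi hcov fun i => ?_⟩
  · -- the two maps agree on the covering of the source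
    have hPi : ∀ i, RepWith @Etale (pullback.fst π (w i)) := fun i => repWith_fst π (hwe i)
    apply AlgSpDec.EffDescentRep.hom_ext_yon
    intro T t
    obtain ⟨κ, Tk, c, hc, hl⟩ := exists_fppf_local_lift hX' hXi _ hcov T (t ≫ f')
    refine hom_ext_of_covering _ _ hc ?_
    rintro V _ ⟨_, φ, _, ⟨k⟩, rfl⟩
    obtain ⟨i, l, hl⟩ := hl k
    let m : (yon S).obj (Tk k) ⟶ pullback π (w i) := pullback.lift ((yon S).map (c k) ≫ t)
      (l ≫ pullback.snd ν (w i)) (by
        rw [Category.assoc, Category.assoc, ← pullback.condition, reassoc_of% hl, hfac])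
    have hm : m ≫ pullMap hfac (w i) = l := by
      apply pullback.hom_ext
      · simp only [m, pullMap, Category.assoc, pullback.lift_fst, pullback.lift_fst_assoc, hl]
      · simp only [m, pullMap, Category.assoc, pullback.lift_snd]
    have e₁ : (yon S).map (c k) ≫ t ≫ f' ≫ h = (yon S).map (c k) ≫ t ≫ g := by
      rw [← reassoc_of% hl, hh, ← hm, Category.assoc, hHg, pullback.lift_fst_assoc, Category.assoc]
    rw [Functor.map_comp, Category.assoc, Category.assoc, e₁]
  · rw [hh]
    exact uniq (w i) _ ((hUN i).norm_affine (hW i)) _ _ (by rw [Category.assoc, hl.2]) (hHp i)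
      (by simp only [pullMap]; rw [← Category.assoc, pullback.lift_fst, Category.assoc, hl.1]) (hHg i)

/-- A stable normalization is a normalization. -/
theorem IsUN.isRelNormalization (h : IsUN π ν f') (hX : IsAlgSpace X) : IsRelNormalization π ν f' := by
  obtain ⟨ι, W, w, hW, hwe, hws⟩ := exists_etale_affine_cover hX
  exact isRelNormalization_of_cover hX h.fac h.integral W w hW hwe hws fun i => h.pull _ (smooth_of_etale (hwe i))

/-- Being a stable normalization is local for étale coverings by affine schemes. -/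
theorem isUN_of_cover (hfac : f' ≫ ν = π) (hν : IsIntegralMor ν) {ι : Type u}
    (W : ι → Over S) (w : ∀ i, (yon S).obj (W i) ⟶ X) (_hW : ∀ i, IsAffine (W i).left)
    (hwe : ∀ i, RepWith @Etale (w i)) (hws : ∀ x, ∃ i v, Points.ofPt (w i) v = x)
    (hUN : ∀ i, IsUN (pullback.snd π (w i)) (pullback.snd ν (w i)) (pullMap hfac (w i))) : IsUN π ν f' := by
  refine ⟨hfac, hν, fun U hU u hu PW XW a pW b νW fW sq₁ sq₂ c₁ c₂ => ?_⟩
  have hνW : IsIntegralMor νW := AlgSpDec.isIntegralMor_iff_repWith.2
    (repWith_of_isPullback sq₂ (AlgSpDec.isIntegralMor_iff_repWith.1 hν))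
  let O : ι → Over S := fun i => (hwe i).rep.pullback u
  let oi : ∀ i, O i ⟶ W i := fun i => (hwe i).rep.fst' u
  let o : ∀ i, O i ⟶ U := fun i => (hwe i).rep.snd u
  have sqO : ∀ i, IsPullback ((yon S).map (oi i)) ((yon S).map (o i)) (w i) u := fun i =>
    (hwe i).rep.isPullback' u
  let ι' := Σ i, (O i).left.affineOpens
  let V : ι' → Over S := fun k => Over.mk (k.2.1.ι ≫ (O k.1).hom)
  let inc : ∀ k : ι', V k ⟶ O k.1 := fun k => Over.homMk k.2.1.ι rfl
  have hinc : ∀ k, RepWith @Etale ((yon S).map (inc k)) := fun k =>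
    (repWith_yon_map_iff _ _).2 (inferInstanceAs (Etale k.2.1.ι))
  refine isRelNormalization_of_cover (IsAlgSpace.yon_obj U) c₁ hνW V
    (fun k => (yon S).map (inc k ≫ o k.1)) (fun k => k.2.2) (fun k => ?_) (fun x => ?_) (fun k => ?_)
  · rw [Functor.map_comp]
    exact repWith_comp (hinc k) (repWith_of_isPullback (sqO k.1) (hwe k.1))
  · obtain ⟨i, v, hv⟩ := hws (Points.map u x)
    rw [Points.ofPt_eq_map_ofScheme] at hv
    obtain ⟨z, -, hz⟩ := exists_point_of_isPullback (sqO i) hv
    obtain ⟨τ, rfl⟩ := (Points.schemeHomeo (O i)).surjective z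
    obtain ⟨A, hA, hτ, -⟩ := exists_isAffineOpen_mem_and_subset (U := (⊤ : (O i).left.Opens)) (x := τ) trivial
    refine ⟨⟨i, A, hA⟩, ⟨τ, hτ⟩, ?_⟩
    rw [← hz, Functor.map_comp, ofPt_comp, Points.ofPt_eq_map_ofScheme]
    rfl
  · let q : (yon S).obj (V k) ⟶ (yon S).obj U := (yon S).map (inc k ≫ o k.1)
    let r : (yon S).obj (V k) ⟶ (yon S).obj (W k.1) := (yon S).map (inc k ≫ oi k.1)
    have hqr : q ≫ u = r ≫ w k.1 := by
      simp only [q, r, Functor.map_comp, Category.assoc, (sqO k.1).w]
    have hr : RepWith @Smooth r := by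
      simp only [r, Functor.map_comp]
      exact repWith_comp (smooth_of_etale (hinc k)) (repWith_of_isPullback (sqO k.1).flip hu)
    let A : pullback pW q ⟶ pullback π (w k.1) := pullback.lift (pullback.fst pW q ≫ a) (pullback.snd pW q ≫ r) (by
      rw [Category.assoc, sq₁.w, pullback.condition_assoc, hqr, Category.assoc])
    let B : pullback νW q ⟶ pullback ν (w k.1) := pullback.lift (pullback.fst νW q ≫ b) (pullback.snd νW q ≫ r) (by
      rw [Category.assoc, sq₂.w, pullback.condition_assoc, hqr, Category.assoc])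
    have sA : IsPullback A (pullback.snd pW q) (pullback.snd π (w k.1)) r := IsPullback.of_right
      (by rw [pullback.lift_fst, ← hqr]; exact (IsPullback.of_hasPullback pW q).paste_horiz sq₁)
      (pullback.lift_snd _ _ _) (IsPullback.of_hasPullback π (w k.1))
    have sB : IsPullback B (pullback.snd νW q) (pullback.snd ν (w k.1)) r := IsPullback.of_right
      (by rw [pullback.lift_fst, ← hqr]; exact (IsPullback.of_hasPullback νW q).paste_horiz sq₂)
      (pullback.lift_snd _ _ _) (IsPullback.of_hasPullback ν (w k.1))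
    refine (hUN k.1).baseChange r hr sA sB (pullback.lift_snd _ _ _) ?_
    apply pullback.hom_ext
    · simp only [pullMap, A, B, q, Category.assoc, pullback.lift_fst, pullback.lift_fst_assoc, c₂]
    · simp only [pullMap, A, B, q, Category.assoc, pullback.lift_snd, pullback.lift_snd_assoc]

end Groth.Agent.NormSp
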