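import Groth.Agent.NormSp.Descend
import Groth.Agent.AlgSpDec.AffineCheck

/-!
# Existence and smooth base change of normalizations of algebraic spaces
-/

set_option autoImplicit false
set_option backward.isDefEq.respectTransparency false
set_option backward.isDefEq.respectTransparency.types false

universe u

open CategoryTheory CategoryTheory.Limits AlgebraicGeometry Opposite AlgSp Groth.Agent.AlgSpLib
open Groth.Agent.AlgSpDec (sigmaOver sigmaι sigmaι_injective exists_sigmaι)

namespace Groth.Agent.NormSp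

variable {S : Scheme.{u}}

/-- A quasi-compact quasi-separated morphism of algebraic spaces has a stable normalization. -/
theorem exists_isUN {P X : Sp S} (hP : IsAlgSpace P) (hX : IsAlgSpace X) (f : P ⟶ X) (hqc : IsQuasiCompactMor f)
    (hqs : IsQuasiSeparatedMor f) :
    ∃ (X' : Sp S) (ν : X' ⟶ X) (f' : P ⟶ X'), IsAlgSpace X' ∧ IsUN f ν f' := by
  obtain ⟨U₀, p₀, he₀, hs₀⟩ := hX.atlas
  let W : U₀.left.affineOpens → Over S := fun V => CategoryTheory.Over.mk (V.1.ι ≫ U₀.hom)
  have hW : ∀ i, IsAffine (W i).left := fun V => V.2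
  let U := sigmaOver W
  let jU : U ⟶ U₀ := CategoryTheory.Over.homMk (Sigma.desc fun V => V.1.ι) (Sigma.hom_ext _ _ fun V => by
    simp [W, U, sigmaOver])
  have hje : Etale jU.left :=
    AlgSpDec.etale_sigma_desc fun V : U₀.left.affineOpens => V.1
  have hjs : Surjective jU.left := ⟨fun x => by
    obtain ⟨V, hV, hx, -⟩ := exists_isAffineOpen_mem_and_subset (U := (⊤ : U₀.left.Opens)) (x := x) trivial
    refine ⟨(sigmaι W ⟨V, hV⟩).left ⟨x, hx⟩, ?_⟩
    show (Sigma.desc fun V : U₀.left.affineOpens => V.1.ι)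
      (Sigma.ι (fun V : U₀.left.affineOpens => V.1.toScheme) ⟨V, hV⟩ ⟨x, hx⟩) = x
    rw [← Scheme.Hom.comp_apply, Sigma.ι_desc]
    rfl⟩
  let u : (yon S).obj U ⟶ X := (yon S).map jU ≫ p₀
  have hue : RepWith @Etale u := repWith_comp ((repWith_yon_map_iff _ jU).2 hje) he₀
  have hus : RepWith @Surjective u := repWith_comp ((repWith_yon_map_iff _ jU).2 hjs) hs₀
  let w : ∀ i, (yon S).obj (W i) ⟶ X := fun i => (yon S).map (sigmaι W i) ≫ u
  have hwe : ∀ i, RepWith @Etale (w i) := fun i =>
    repWith_comp ((repWith_yon_map_iff _ _).2 (inferInstanceAs (Etale (sigmaι W i).left))) hue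
  -- the pieces
  have hpiece : ∀ i, ∃ (N : Over S) (ν : N ⟶ W i) (f' : pullback f (w i) ⟶ (yon S).obj N),
      IsUN (pullback.snd f (w i)) ((yon S).map ν) f' := fun i => by
    have := hW i
    obtain ⟨N, ν, f', h, -⟩ := exists_isUN_affine (π := pullback.snd f (w i))
      (isAlgSpace_pullback hP (IsAlgSpace.yon_obj _) hX f (w i))
      (AlgSpPts.isQuasiCompactMor_of_isPullback (IsPullback.of_hasPullback f (w i)) hqc)
      (AlgSpPts.isQuasiSeparatedMor_of_isPullback (IsPullback.of_hasPullback f (w i)) hqs)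
    exact ⟨N, ν, f', h⟩
  choose Ni νi fi hUNi using hpiece
  let N := sigmaOver Ni
  let νU : N ⟶ U := CategoryTheory.Over.homMk (Sigma.desc fun i => (νi i ≫ sigmaι W i).left)
    (Sigma.hom_ext _ _ fun i => by
      simp only [N, U, sigmaOver, CategoryTheory.Over.mk_hom, Sigma.ι_desc_assoc, Sigma.ι_desc]
      exact Over.w (νi i ≫ sigmaι W i))
  have hνU : ∀ i, sigmaι Ni i ≫ νU = νi i ≫ sigmaι W i := fun i =>
    Over.OverMorphism.ext (Sigma.ι_desc _ _)
  have sqN : ∀ i, IsPullback (sigmaι Ni i) (νi i) νU (sigmaι W i) := fun i => by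
    refine IsPullback.of_map (Over.forget S) (hνU i) (IsOpenImmersion.isPullback (νi i).left (sigmaι Ni i).left
      (sigmaι W i).left νU.left ?_ ?_).flip
    · rw [← Over.comp_left, hνU, Over.comp_left]
    · ext x
      obtain ⟨k, n, rfl⟩ := exists_sigmaι Ni x
      have hk : νU.left ((sigmaι Ni k).left n) = (sigmaι W k).left ((νi k).left n) := by
        rw [← Scheme.Hom.comp_apply, ← Over.comp_left, hνU, Over.comp_left, Scheme.Hom.comp_apply]
      constructor
      · rintro ⟨v, hv⟩
        obtain rfl := sigmaι_injective W (hv.trans hk)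
        exact ⟨n, rfl⟩
      · rintro ⟨m, hm⟩
        obtain rfl := sigmaι_injective Ni hm
        exact ⟨(νi i).left n, hk.symm⟩
  -- the map from the source
  let PU := pullback f u
  let g : ∀ i, pullback f (w i) ⟶ PU := fun i => pullback.lift (pullback.fst f (w i))
    (pullback.snd f (w i) ≫ (yon S).map (sigmaι W i)) (by rw [Category.assoc]; exact pullback.condition)
  have sqg : ∀ i, IsPullback (g i) (pullback.snd f (w i)) (pullback.snd f u) ((yon S).map (sigmaι W i)) := fun i =>
    IsPullback.of_right (by rw [pullback.lift_fst]; exact IsPullback.of_hasPullback f (w i))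
      (pullback.lift_snd _ _ _) (IsPullback.of_hasPullback f u)
  have hPU : IsAlgSpace PU := isAlgSpace_pullback hP (IsAlgSpace.yon_obj U) hX f u
  have hgo : ∀ i, RepWith @IsOpenImmersion (g i) := fun i =>
    repWith_of_isPullback (sqg i).flip ((repWith_yon_map_iff _ _).2
      (inferInstanceAs (IsOpenImmersion (sigmaι W i).left)))
  have hcov : IsFppfCover (fun i => pullback f (w i)) g := by
    refine ⟨fun i => ⟨?_, ?_⟩, fun x => ?_⟩
    · exact locP_mono (P := @Etale) (Q := @Flat) (fun _ _ f (_ : Etale f) => inferInstanceAs (Flat f))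
        (locP_of_repWith (repWith_mono (fun _ _ e (_ : IsOpenImmersion e) => inferInstanceAs (Etale e)) _ (hgo i)))
    · exact locP_mono (P := @Etale) (Q := @LocallyOfFinitePresentation)
        (fun _ _ f (_ : Etale f) => inferInstanceAs (LocallyOfFinitePresentation f))
        (locP_of_repWith (repWith_mono (fun _ _ e (_ : IsOpenImmersion e) => inferInstanceAs (Etale e)) _ (hgo i)))
    · obtain ⟨v, hv⟩ := (Points.schemeHomeo U).surjective (Points.map (pullback.snd f u) x)
      obtain ⟨i, v', rfl⟩ := exists_sigmaι W v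
      obtain ⟨z, hz, -⟩ := exists_point_of_isPullback (sqg i) (x := x) (y := Points.ofScheme (W i) v')
        (hv.symm.trans (Points.map_yon_map_apply (sigmaι W i) _).symm)
      exact ⟨i, z, hz⟩
  obtain ⟨fU, hfU⟩ := AlgSpDec.exists_desc_of_fppfCover hPU
    (fun i => isAlgSpace_pullback hP (IsAlgSpace.yon_obj _) hX f (w i)) hcov
    (fun i => fi i ≫ (yon S).map (sigmaι Ni i)) (fun i k T p q hpq => by
      by_cases hik : i = k
      · subst hik
        have := AlgSpDec.mono_of_openImmersion (hgo i)
        rw [(cancel_mono (g i)).1 hpq]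
      · obtain ⟨p', hp'⟩ := (yon S).map_surjective (p ≫ pullback.snd f (w i))
        obtain ⟨q', hq'⟩ := (yon S).map_surjective (q ≫ pullback.snd f (w k))
        have h : p' ≫ sigmaι W i = q' ≫ sigmaι W k := (yon S).map_injective (by
          rw [Functor.map_comp, Functor.map_comp, hp', hq', Category.assoc, Category.assoc, ← (sqg i).w,
            ← (sqg k).w, reassoc_of% hpq])
        have : IsEmpty ↥T.left := ⟨fun t => hik (sigmaι_injective W (v := p'.left t) (w := q'.left t) (by
          rw [← Scheme.Hom.comp_apply, ← Scheme.Hom.comp_apply, ← Over.comp_left, ← Over.comp_left, h]))⟩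
        exact AlgSpDec.hom_ext_of_isEmpty _ _)
  have hfac : fU ≫ (yon S).map νU = pullback.snd f u := AlgSpDec.hom_ext_of_fppfCover hPU
    (fun i => isAlgSpace_pullback hP (IsAlgSpace.yon_obj _) hX f (w i)) hcov fun i => by
      rw [← Category.assoc, hfU, Category.assoc, ← Functor.map_comp, hνU, Functor.map_comp, ← Category.assoc,
        (hUNi i).fac, (sqg i).w]
  have hνint : IsIntegralMor ((yon S).map νU) := AlgSpDec.isIntegralMor_iff_repWith.2
    ((repWith_yon_map_iff @IsIntegralHom νU).2 (by
      refine IsZariskiLocalAtTarget.of_openCover (P := @IsIntegralHom) (sigmaOpenCover fun i => (W i).left) fun i => ?_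
      have hi : IsIntegralHom (νi i).left := (repWith_yon_map_iff @IsIntegralHom (νi i)).1
        (AlgSpDec.isIntegralMor_iff_repWith.1 (hUNi i).integral)
      have sq := ((sqN i).map (Over.forget S))
      show IsIntegralHom (pullback.snd νU.left (Sigma.ι (fun i => (W i).left) i))
      exact (MorphismProperty.cancel_left_of_respectsIso @IsIntegralHom sq.isoPullback.hom _).1
        (by rw [show sq.isoPullback.hom ≫ pullback.snd νU.left (Sigma.ι (fun i => (W i).left) i) = (νi i).left from
          sq.isoPullback_hom_snd]; exact hi)))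
  have hUN : IsUN (pullback.snd f u) ((yon S).map νU) fU := by
    refine isUN_of_cover hfac hνint W (fun i => (yon S).map (sigmaι W i)) hW
      (fun i => (repWith_yon_map_iff _ _).2 (inferInstanceAs (Etale (sigmaι W i).left))) (fun x => ?_) (fun i => ?_)
    · obtain ⟨v, rfl⟩ := (Points.schemeHomeo U).surjective x
      obtain ⟨i, v', rfl⟩ := exists_sigmaι W v
      exact ⟨i, v', by rw [← Category.comp_id ((yon S).map (sigmaι W i)), ofPt_comp]; rfl⟩
    · let ι := (yon S).map (sigmaι W i)
      let A := (IsPullback.of_hasPullback (pullback.snd f u) ι).isoIsPullback _ _ (sqg i)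
      let B := (IsPullback.of_hasPullback ((yon S).map νU) ι).isoIsPullback _ _ ((sqN i).map (yon S))
      have hA₁ : A.hom ≫ g i = pullback.fst (pullback.snd f u) ι := IsPullback.isoIsPullback_hom_fst _ _ _ _
      have hA₂ : A.hom ≫ pullback.snd f (w i) = pullback.snd (pullback.snd f u) ι :=
        IsPullback.isoIsPullback_hom_snd _ _ _ _
      have hB₁ : B.hom ≫ (yon S).map (sigmaι Ni i) = pullback.fst ((yon S).map νU) ι :=
        IsPullback.isoIsPullback_hom_fst _ _ _ _
      have hB₂ : B.hom ≫ (yon S).map (νi i) = pullback.snd ((yon S).map νU) ι :=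
        IsPullback.isoIsPullback_hom_snd _ _ _ _
      refine (hUNi i).baseChange (𝟙 _) (repWith_of_isIso _ _) (a := A.hom) (b := B.hom)
        (IsPullback.of_horiz_isIso ⟨by rw [hA₂, Category.comp_id]⟩)
        (IsPullback.of_horiz_isIso ⟨by rw [hB₂, Category.comp_id]⟩) (pullback.lift_snd _ _ _) ?_
      apply ((sqN i).map (yon S)).hom_ext
      · simp only [pullMap, ι, Category.assoc, hB₁, pullback.lift_fst]
        rw [← hA₁, Category.assoc, hfU]
      · simp only [pullMap, ι, Category.assoc, hB₂, pullback.lift_snd, (hUNi i).fac, hA₂]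
  obtain ⟨X', ν, f', q, hX', hint, hf', sqq, hcomp⟩ := exists_descend hX (IsPullback.of_hasPullback f u) hue hus hUN
  refine ⟨X', ν, f', hX', isUN_of_cover hf' hint W w hW hwe (fun x => ?_) (fun i => ?_)⟩
  · obtain ⟨v, rfl⟩ := surjective_ofPt hus x
    obtain ⟨i, v', rfl⟩ := exists_sigmaι W v
    exact ⟨i, v', by rw [ofPt_comp]⟩
  · let ι := (yon S).map (sigmaι W i)
    let A : pullback f (w i) ⟶ pullback f u := g i
    have sB : IsPullback (pullback.fst ν (w i)) (pullback.snd ν (w i)) ν (ι ≫ u) := IsPullback.of_hasPullback ν (w i)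
    let B : pullback ν (w i) ⟶ (yon S).obj N := sqq.lift (pullback.fst ν (w i)) (pullback.snd ν (w i) ≫ ι)
      (by rw [sB.w, Category.assoc])
    refine hUN.baseChange ι (smooth_of_etale ((repWith_yon_map_iff _ _).2
      (inferInstanceAs (Etale (sigmaι W i).left)))) (sqg i) (b := B) ?_ (pullback.lift_snd _ _ _) ?_
    · exact IsPullback.of_right (by rw [sqq.lift_fst]; exact sB) (sqq.lift_snd _ _ _) sqq
    · apply sqq.hom_ext
      · rw [Category.assoc, sqq.lift_fst, Category.assoc, hcomp]
        simp only [pullMap, g, pullback.lift_fst, pullback.lift_fst_assoc]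
      · rw [Category.assoc, sqq.lift_snd, Category.assoc, hfac]
        simp only [pullMap, g, pullback.lift_snd, pullback.lift_snd_assoc]
        rfl

end Groth.Agent.NormSp

namespace Groth.Agent.NormSp

variable {S : Scheme.{u}} {P X X' : Sp S} {f : P ⟶ X} {ν : X' ⟶ X} {f' : P ⟶ X'}

/-- Every normalization is stable. -/
theorem isUN_of_norm (hP : IsAlgSpace P) (hX : IsAlgSpace X) (hqc : IsQuasiCompactMor f)
    (hqs : IsQuasiSeparatedMor f) (hn : IsRelNormalization f ν f') : IsUN f ν f' := by
  obtain ⟨X₁, ν₁, f₁, -, h⟩ := exists_isUN hP hX f hqc hqs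
  obtain ⟨e, he₁, he₂⟩ := exists_iso_of_norm hX (h.isRelNormalization hX) hn
  exact h.of_iso e he₁ he₂

/-- Normalization commutes with smooth base change. -/
theorem norm_baseChange (hP : IsAlgSpace P) (hX : IsAlgSpace X) (hqc : IsQuasiCompactMor f)
    (hqs : IsQuasiSeparatedMor f) (hn : IsRelNormalization f ν f') {Y : Sp S} (hY : IsAlgSpace Y) (y : Y ⟶ X)
    (hy : LocP @Smooth y) {PY XY : Sp S} {a : PY ⟶ P} {pY : PY ⟶ Y} {b : XY ⟶ X'} {νY : XY ⟶ Y} {fY : PY ⟶ XY}
    (sq₁ : IsPullback a pY f y) (sq₂ : IsPullback b νY ν y) (c₁ : fY ≫ νY = pY) (c₂ : fY ≫ b = a ≫ f') :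
    IsRelNormalization pY νY fY := by
  have h := isUN_of_norm hP hX hqc hqs hn
  obtain ⟨ι, W, w, hW, hwe, hws⟩ := exists_etale_affine_cover hY
  refine isRelNormalization_of_cover hY c₁ (AlgSpDec.isIntegralMor_iff_repWith.2
    (repWith_of_isPullback sq₂ (AlgSpDec.isIntegralMor_iff_repWith.1 h.integral))) W w hW hwe hws fun i => ?_
  have hwy : RepWith @Smooth (w i ≫ y) := repWith_of_locP hX (hX.representable_from_yon _)
    (locP_comp (IsAlgSpace.yon_obj _) hY hX (locP_of_repWith (smooth_of_etale (hwe i))) hy)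
  refine h.baseChange (w i ≫ y) hwy ((IsPullback.of_hasPullback pY (w i)).paste_horiz sq₁)
    ((IsPullback.of_hasPullback νY (w i)).paste_horiz sq₂) (pullback.lift_snd _ _ _) ?_
  simp only [pullMap, pullback.lift_fst_assoc, Category.assoc, c₂]

end Groth.Agent.NormSp
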