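import Groth.Agent.NormSp.Alg
import Groth.Agent.AlgSpLib.Rep
import Groth.Agent.AlgSpLib.Points
import Groth.Agent.AlgSpLib.PairGroupoid
import Groth.Agent.AlgSpDec.AffineRep
import Groth.Agent.AlgSpDec.EffDescentRep
import Groth.Prelude.Def_AlgSpMor5
import Mathlib.CategoryTheory.Sites.RegularEpi
import Mathlib.AlgebraicGeometry.Morphisms.Integral
import Mathlib.AlgebraicGeometry.Morphisms.Smooth
import Mathlib.AlgebraicGeometry.Sites.Fpqc

/-!
# The normalization of an affine scheme in a quasi-compact quasi-separated space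
-/

set_option autoImplicit false
set_option backward.isDefEq.respectTransparency false
set_option backward.isDefEq.respectTransparency.types false

universe u

open CategoryTheory CategoryTheory.Limits AlgebraicGeometry Opposite AlgSp Groth.Agent.AlgSpLib

namespace Groth.Agent.NormSp

variable {S : Scheme.{u}}

/-- An affine presentation of a space over an affine scheme. -/
structure Pres {P : Sp S} {U : Over S} (π : P ⟶ (yon S).obj U) {V W Q : Over S} (a : (yon S).obj V ⟶ P)
    (v : V ⟶ U) (ω : W ⟶ Q) (r₁ r₂ : Q ⟶ V) : Prop where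
  affU : IsAffine U.left
  affV : IsAffine V.left
  affW : IsAffine W.left
  etale : RepWith @Etale a
  surj : RepWith @Surjective a
  ha : a ≫ π = (yon S).map v
  w : (yon S).map r₁ ≫ a = (yon S).map r₂ ≫ a
  lift : ∀ (T : Over S) (x y : T ⟶ V), (yon S).map x ≫ a = (yon S).map y ≫ a →
    ∃ q : T ⟶ Q, q ≫ r₁ = x ∧ q ≫ r₂ = y
  ωflat : Flat ω.left
  ωfp : LocallyOfFinitePresentation ω.left
  ωsurj : Surjective ω.left

/-- The ring conditions cutting out the normalization of an affine scheme. -/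
structure IsNormAff {U V W : Over S} (v : V ⟶ U) (α β : W ⟶ V) {N : Over S} (ν : N ⟶ U) (n : V ⟶ N) : Prop where
  affN : IsAffine N.left
  integral : IsIntegralHom ν.left
  w₁ : n ≫ ν = v
  w₂ : α ≫ n = β ≫ n
  inj : Function.Injective n.left.appTop.hom
  range : ∀ b, v.left.appTop.hom.IsIntegralElem b → α.left.appTop.hom b = β.left.appTop.hom b →
    b ∈ Set.range n.left.appTop.hom

/-- A morphism into an affine scheme with given map on global functions. -/
theorem exists_appTop {X Y : Scheme.{u}} [IsAffine Y] (φ : Γ(Y, ⊤) ⟶ Γ(X, ⊤)) :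
    ∃ f : X ⟶ Y, f.appTop = φ := by
  refine ⟨X.toSpecΓ ≫ Spec.map φ ≫ Y.isoSpec.inv, ?_⟩
  have h : (X.toSpecΓ ≫ Spec.map φ ≫ Y.isoSpec.inv) ≫ Y.toSpecΓ = X.toSpecΓ ≫ Spec.map φ := by
    show _ ≫ Y.isoSpec.hom = _
    rw [Category.assoc, Category.assoc, Iso.inv_hom_id, Category.comp_id]
  have := congrArg Scheme.Hom.appTop h
  simp only [Scheme.Hom.comp_appTop, Scheme.toSpecΓ_appTop, Scheme.ΓSpecIso_naturality] at this
  exact (cancel_epi (Scheme.ΓSpecIso Γ(Y, ⊤)).hom).1 (by simpa using this)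

theorem appTop_isIntegral {X Y : Scheme.{u}} (f : X ⟶ Y) [IsAffine Y] [IsIntegralHom f] :
    f.appTop.hom.IsIntegral :=
  ((HasAffineProperty.iff_of_isAffine (P := @IsIntegralHom)).1 ‹IsIntegralHom f›).2

variable {P : Sp S} {U V W Q : Over S} {π : P ⟶ (yon S).obj U} {a : (yon S).obj V ⟶ P}
  {v : V ⟶ U} {ω : W ⟶ Q} {r₁ r₂ : Q ⟶ V}

theorem Pres.epi (h : Pres π a v ω r₁ r₂) : Epi a := epi_of_etale_surjective h.etale h.surj

/-- A map that coequalises the chosen relation coequalises the whole relation. -/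
theorem Pres.agree (h : Pres π a v ω r₁ r₂) {Z : Over S} (k : V ⟶ Z)
    (hk : (ω ≫ r₁) ≫ k = (ω ≫ r₂) ≫ k) {T : Over S} (x y : T ⟶ V)
    (hxy : (yon S).map x ≫ a = (yon S).map y ≫ a) : x ≫ k = y ≫ k := by
  obtain ⟨q, rfl, rfl⟩ := h.lift T x y hxy
  have := h.ωflat
  have := h.ωfp
  have := h.ωsurj
  have : Epi ω.left := Flat.epi_of_flat_of_surjective _
  have e : r₁ ≫ k = r₂ ≫ k := Over.OverMorphism.ext ((cancel_epi ω.left).1 (by
    have := congrArg (fun l : W ⟶ Z => l.left) hk
    simpa only [Over.comp_left, Category.assoc] using this))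
  rw [Category.assoc, Category.assoc, e]

/-- A map that coequalises the relation descends. -/
theorem Pres.exists_desc (h : Pres π a v ω r₁ r₂) {Z : Over S} (k : V ⟶ Z)
    (hk : (ω ≫ r₁) ≫ k = (ω ≫ r₂) ≫ k) : ∃ g : P ⟶ (yon S).obj Z, a ≫ g = (yon S).map k := by
  have := h.epi
  have : EffectiveEpi a := by
    have := IsRegularEpiCategory.regularEpiOfEpi a
    infer_instance
  refine ⟨EffectiveEpi.desc a ((yon S).map k) (fun g₁ g₂ e => AlgSpDec.EffDescentRep.desc_agree
    (fun T x y hxy => ?_) g₁ g₂ e), EffectiveEpi.fac a _ _⟩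
  obtain ⟨x, rfl⟩ := (yon S).map_surjective x
  obtain ⟨y, rfl⟩ := (yon S).map_surjective y
  rw [← Functor.map_comp, ← Functor.map_comp, h.agree k hk x y hxy]

/-- Existence of the normalization of an affine scheme. -/
theorem exists_isNormAff (hU : IsAffine U.left) {α β : W ⟶ V} (hαβ : α ≫ v = β ≫ v) :
    ∃ (N : Over S) (ν : N ⟶ U) (n : V ⟶ N), IsNormAff v α β ν n := by
  algebraize [v.left.appTop.hom]
  have hA : ∀ a, α.left.appTop.hom (v.left.appTop.hom a) = β.left.appTop.hom (v.left.appTop.hom a) := fun a => by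
    have h : α.left ≫ v.left = β.left ≫ v.left := by rw [← Over.comp_left, hαβ, Over.comp_left]
    have := congrArg Scheme.Hom.appTop h
    rw [Scheme.Hom.comp_appTop, Scheme.Hom.comp_appTop] at this
    exact ConcreteCategory.congr_hom this a
  let C : Subalgebra Γ(U.left, ⊤) Γ(V.left, ⊤) :=
    { ((integralClosure Γ(U.left, ⊤) Γ(V.left, ⊤)).toSubsemiring ⊓
        RingHom.eqLocusS α.left.appTop.hom β.left.appTop.hom) with
      algebraMap_mem' := fun a => ⟨Subalgebra.algebraMap_mem _ a, hA a⟩ }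
  let φ : Γ(U.left, ⊤) ⟶ Γ(Spec (CommRingCat.of C), ⊤) :=
    CommRingCat.ofHom (algebraMap Γ(U.left, ⊤) C) ≫ (Scheme.ΓSpecIso (CommRingCat.of C)).inv
  obtain ⟨ν₀, hν₀⟩ := exists_appTop (X := Spec (CommRingCat.of C)) (Y := U.left) φ
  let N : Over S := CategoryTheory.Over.mk (ν₀ ≫ U.hom)
  let ν : N ⟶ U := CategoryTheory.Over.homMk ν₀ rfl
  have : IsAffine N.left := inferInstanceAs (IsAffine (Spec (CommRingCat.of C)))
  obtain ⟨n₀, hn₀⟩ := exists_appTop (X := V.left) (Y := N.left)
    ((Scheme.ΓSpecIso (CommRingCat.of C)).hom ≫ CommRingCat.ofHom C.val.toRingHom)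
  have hnν : n₀ ≫ ν₀ = v.left := ext_of_isAffine (by
    rw [Scheme.Hom.comp_appTop, hν₀, hn₀, Category.assoc, Iso.inv_hom_id_assoc]
    rfl)
  let n : V ⟶ N := CategoryTheory.Over.homMk n₀ (by
    show n₀ ≫ ν₀ ≫ U.hom = V.hom
    rw [← Category.assoc, hnν, Over.w v])
  have happ : ∀ c, n.left.appTop.hom c = ((Scheme.ΓSpecIso (CommRingCat.of C)).hom.hom c).1 := fun c =>
    ConcreteCategory.congr_hom hn₀ c
  refine ⟨N, ν, n, ‹_›, ?_, Over.OverMorphism.ext hnν, Over.OverMorphism.ext (ext_of_isAffine ?_), fun c d e => ?_,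
    fun b hb he => ?_⟩
  · show IsIntegralHom ν₀
    have : Algebra.IsIntegral Γ(U.left, ⊤) C :=
      ⟨fun c => (isIntegral_algHom_iff C.val Subtype.val_injective).1 c.2.1⟩
    rw [HasAffineProperty.iff_of_isAffine (P := @IsIntegralHom)]
    refine ⟨inferInstance, ?_⟩
    show ν₀.appTop.hom.IsIntegral
    rw [hν₀]
    exact RingHom.IsIntegral.trans _ _ (algebraMap_isIntegral_iff.2 ‹_›)
      (RingHom.isIntegral_of_surjective _ (ConcreteCategory.bijective_of_isIso
        (Scheme.ΓSpecIso (CommRingCat.of C)).inv).2)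
  · rw [Over.comp_left, Over.comp_left, Scheme.Hom.comp_appTop, Scheme.Hom.comp_appTop]
    refine CommRingCat.hom_ext (RingHom.ext fun c => ?_)
    show α.left.appTop.hom (n.left.appTop.hom c) = β.left.appTop.hom (n.left.appTop.hom c)
    rw [happ]
    exact ((Scheme.ΓSpecIso (CommRingCat.of C)).hom.hom c).2.2
  · rw [happ, happ] at e
    exact (ConcreteCategory.bijective_of_isIso (Scheme.ΓSpecIso (CommRingCat.of C)).hom).1 (Subtype.ext e)
  · obtain ⟨c, hc⟩ := (ConcreteCategory.bijective_of_isIso (Scheme.ΓSpecIso (CommRingCat.of C)).hom).2 ⟨b, hb, he⟩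
    exact ⟨c, (happ c).trans (congrArg Subtype.val hc)⟩

/-- The affine construction has the universal property of the normalization. -/
theorem IsNormAff.isRelNormalization (h : Pres π a v ω r₁ r₂) {N : Over S} {ν : N ⟶ U} {n : V ⟶ N}
    (hn : IsNormAff v (ω ≫ r₁) (ω ≫ r₂) ν n) {f' : P ⟶ (yon S).obj N} (hf' : a ≫ f' = (yon S).map n) :
    IsRelNormalization π ((yon S).map ν) f' := by
  have := h.epi
  have := h.affU
  have := h.affV
  have := hn.affN
  refine ⟨by rw [← cancel_epi a, ← Category.assoc, hf', ← Functor.map_comp, hn.w₁, h.ha],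
    AlgSpDec.isIntegralMor_iff_repWith.2 ((repWith_yon_map_iff @IsIntegralHom ν).2 hn.integral), ?_⟩
  intro Z hZ π' g hπ' hg
  have hr := AlgSpDec.isIntegralMor_iff_repWith.1 hπ'
  have sq := hr.rep.isPullback (𝟙 ((yon S).obj U))
  have : IsIso (hr.rep.fst (𝟙 ((yon S).obj U))) := sq.isIso_fst_of_isIso
  let E := asIso (hr.rep.fst (𝟙 ((yon S).obj U)))
  let δ := hr.rep.snd (𝟙 ((yon S).obj U))
  have hδ : IsIntegralHom δ.left := hr.property_snd (𝟙 ((yon S).obj U))
  have : IsAffine (hr.rep.pullback (𝟙 ((yon S).obj U))).left := isAffine_of_isAffineHom δ.left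
  have hEπ : E.hom ≫ π' = (yon S).map δ := sq.w.trans (Category.comp_id _)
  obtain ⟨k, hk⟩ := (yon S).map_surjective (a ≫ g ≫ E.inv)
  have hkδ : k ≫ δ = v := (yon S).map_injective (by
    rw [Functor.map_comp, hk, ← hEπ, Category.assoc, Category.assoc, E.inv_hom_id_assoc, hg, h.ha])
  have hkw : (ω ≫ r₁) ≫ k = (ω ≫ r₂) ≫ k := (yon S).map_injective (by
    simp only [Functor.map_comp, Category.assoc, hk]
    rw [reassoc_of% h.w])
  have hkδ' : δ.left.appTop ≫ k.left.appTop = v.left.appTop := by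
    rw [← Scheme.Hom.comp_appTop, ← Over.comp_left, hkδ]
  have hmem : ∀ d, k.left.appTop.hom d ∈ n.left.appTop.hom.range := fun d => by
    refine hn.range _ ?_ ?_
    · obtain ⟨p, hp, hp'⟩ := appTop_isIntegral δ.left d
      refine ⟨p, hp, ?_⟩
      rw [← hkδ', CommRingCat.hom_comp, ← Polynomial.hom_eval₂, hp', map_zero]
    · have := congrArg (fun l => l.left) hkw
      simp only [Over.comp_left] at this
      have := congrArg Scheme.Hom.appTop this
      rw [Scheme.Hom.comp_appTop _ k.left, Scheme.Hom.comp_appTop _ k.left] at this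
      exact ConcreteCategory.congr_hom this d
  let en := RingEquiv.ofBijective n.left.appTop.hom.rangeRestrict
    ⟨fun x y e => hn.inj (congrArg Subtype.val e), n.left.appTop.hom.rangeRestrict_surjective⟩
  let χ : Γ((hr.rep.pullback (𝟙 ((yon S).obj U))).left, ⊤) ⟶ Γ(N.left, ⊤) :=
    CommRingCat.ofHom (en.symm.toRingHom.comp (k.left.appTop.hom.codRestrict n.left.appTop.hom.range hmem))
  have hχ : χ ≫ n.left.appTop = k.left.appTop := CommRingCat.hom_ext (RingHom.ext fun d => by
    exact congrArg Subtype.val (en.apply_symm_apply ⟨_, hmem d⟩))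
  obtain ⟨h₀, hh₀⟩ := exists_appTop χ
  have hn0 : Mono (n.left.appTop) := ConcreteCategory.mono_of_injective _ hn.inj
  have hhδ : h₀ ≫ δ.left = ν.left := ext_of_isAffine (by
    rw [← cancel_mono n.left.appTop, Scheme.Hom.comp_appTop, hh₀, Category.assoc, hχ, hkδ',
      ← Scheme.Hom.comp_appTop, ← Over.comp_left, hn.w₁])
  let hm : N ⟶ hr.rep.pullback (𝟙 ((yon S).obj U)) := CategoryTheory.Over.homMk h₀ (by
    rw [← Over.w δ, ← Category.assoc, hhδ, Over.w ν])
  have hnh : n ≫ hm = k := Over.OverMorphism.ext (ext_of_isAffine (by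
    rw [Over.comp_left, Scheme.Hom.comp_appTop]
    show h₀.appTop ≫ _ = _
    rw [hh₀, hχ]))
  refine ⟨(yon S).map hm ≫ E.hom, ⟨?_, ?_⟩, ?_⟩
  · rw [← cancel_epi a, ← Category.assoc, hf', ← Category.assoc, ← Functor.map_comp, hnh, hk]
    simp
  · rw [Category.assoc, hEπ, ← Functor.map_comp]
    exact congrArg _ (Over.OverMorphism.ext hhδ)
  · rintro l ⟨hl₁, -⟩
    obtain ⟨l', hl'⟩ := (yon S).map_surjective (l ≫ E.inv)
    have hl : l = (yon S).map l' ≫ E.hom := by rw [hl', Category.assoc, E.inv_hom_id, Category.comp_id]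
    have hnl : n ≫ l' = k := (yon S).map_injective (by
      rw [Functor.map_comp, hl', ← hf', Category.assoc, reassoc_of% hl₁, hk])
    have : l' = hm := Over.OverMorphism.ext (ext_of_isAffine (by
      rw [← cancel_mono n.left.appTop, ← Scheme.Hom.comp_appTop, ← Scheme.Hom.comp_appTop, ← Over.comp_left,
        ← Over.comp_left, hnl, hnh]))
    rw [hl, this]

end Groth.Agent.NormSp
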