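import Groth.Agent.AlgSpLib.Rep
import Groth.Agent.AlgSpDec.AffineRep
import Groth.Prelude.Def_AlgSpMor5
import Mathlib.AlgebraicGeometry.Morphisms.Smooth

/-!
# Relative normalizations that are stable under smooth base change
-/

set_option autoImplicit false
set_option backward.isDefEq.respectTransparency false
set_option backward.isDefEq.respectTransparency.types false

universe u

open CategoryTheory CategoryTheory.Limits AlgebraicGeometry Opposite AlgSp Groth.Agent.AlgSpLib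

namespace Groth.Agent.NormSp

variable {S : Scheme.{u}} {P X X' X'' : Sp S} {π : P ⟶ X} {ν : X' ⟶ X} {f' : P ⟶ X'} {ν'' : X'' ⟶ X} {f'' : P ⟶ X''}

theorem repWith_integral_of_norm (h : IsRelNormalization π ν f') : RepWith @IsIntegralHom ν :=
  AlgSpDec.isIntegralMor_iff_repWith.1 h.2.1

theorem isAlgSpace_of_norm (hX : IsAlgSpace X) (h : IsRelNormalization π ν f') : IsAlgSpace X' :=
  isAlgSpace_of_representable ν (repWith_integral_of_norm h).rep hX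

theorem integralMor_iso_comp (e : X'' ≅ X') (h : IsIntegralMor ν) : IsIntegralMor (e.hom ≫ ν) :=
  AlgSpDec.isIntegralMor_iff_repWith.2
    (repWith_comp (repWith_of_isIso _ e.hom) (AlgSpDec.isIntegralMor_iff_repWith.1 h))

/-- A normalization is unique up to isomorphism. -/
theorem exists_iso_of_norm (hX : IsAlgSpace X) (h : IsRelNormalization π ν f')
    (h'' : IsRelNormalization π ν'' f'') : ∃ e : X' ≅ X'', f' ≫ e.hom = f'' ∧ e.hom ≫ ν'' = ν := by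
  obtain ⟨k, ⟨hk₁, hk₂⟩, -⟩ := h.2.2 (isAlgSpace_of_norm hX h'') ν'' f'' h''.2.1 h''.1
  obtain ⟨l, ⟨hl₁, hl₂⟩, -⟩ := h''.2.2 (isAlgSpace_of_norm hX h) ν f' h.2.1 h.1
  obtain ⟨i, -, hi⟩ := h.2.2 (isAlgSpace_of_norm hX h) ν f' h.2.1 h.1
  obtain ⟨j, -, hj⟩ := h''.2.2 (isAlgSpace_of_norm hX h'') ν'' f'' h''.2.1 h''.1
  refine ⟨⟨k, l, ?_, ?_⟩, hk₁, hk₂⟩
  · exact (hi (k ≫ l) ⟨by rw [← Category.assoc, hk₁, hl₁], by rw [Category.assoc, hl₂, hk₂]⟩).trans
      (hi (𝟙 X') ⟨Category.comp_id _, Category.id_comp _⟩).symm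
  · exact (hj (l ≫ k) ⟨by rw [← Category.assoc, hl₁, hk₁], by rw [Category.assoc, hk₂, hl₂]⟩).trans
      (hj (𝟙 X'') ⟨Category.comp_id _, Category.id_comp _⟩).symm

/-- Normalizations are transported along isomorphisms. -/
theorem norm_of_iso (h : IsRelNormalization π ν f') (e : X' ≅ X'') (h₁ : f' ≫ e.hom = f'')
    (h₂ : e.hom ≫ ν'' = ν) : IsRelNormalization π ν'' f'' := by
  have e₂ : ν'' = e.inv ≫ ν := (Iso.eq_inv_comp e).2 h₂
  refine ⟨by rw [← h₁, Category.assoc, h₂, h.1], e₂ ▸ integralMor_iso_comp e.symm h.2.1,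
    fun Z hZ p g hp hg => ?_⟩
  obtain ⟨k, ⟨hk₁, hk₂⟩, hu⟩ := h.2.2 hZ p g hp hg
  refine ⟨e.inv ≫ k, ⟨?_, ?_⟩, fun l hl => ?_⟩
  · rw [← h₁, Category.assoc, e.hom_inv_id_assoc, hk₁]
  · rw [Category.assoc, hk₂, e₂]
  · rw [Iso.eq_inv_comp]
    exact hu _ ⟨by rw [← Category.assoc, h₁, hl.1], by rw [Category.assoc, hl.2, h₂]⟩

/-- A normalization which stays one after smooth base change to affine schemes. -/
structure IsUN (π : P ⟶ X) (ν : X' ⟶ X) (f' : P ⟶ X') : Prop where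
  fac : f' ≫ ν = π
  integral : IsIntegralMor ν
  bc : ∀ ⦃W : Over S⦄, IsAffine W.left → ∀ (w : (yon S).obj W ⟶ X), RepWith @Smooth w →
    ∀ ⦃PW XW : Sp S⦄ (a : PW ⟶ P) (pW : PW ⟶ (yon S).obj W) (b : XW ⟶ X') (νW : XW ⟶ (yon S).obj W)
      (fW : PW ⟶ XW), IsPullback a pW π w → IsPullback b νW ν w → fW ≫ νW = pW → fW ≫ b = a ≫ f' →
        IsRelNormalization pW νW fW

theorem IsUN.of_iso (h : IsUN π ν f') (e : X' ≅ X'') (h₁ : f' ≫ e.hom = f'') (h₂ : e.hom ≫ ν'' = ν) :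
    IsUN π ν'' f'' := by
  have e₂ : ν'' = e.inv ≫ ν := (Iso.eq_inv_comp e).2 h₂
  refine ⟨by rw [← h₁, Category.assoc, h₂, h.fac], e₂ ▸ integralMor_iso_comp e.symm h.integral,
    fun W hW w hw PW XW a pW b νW fW sq₁ sq₂ c₁ c₂ => ?_⟩
  refine h.bc hW w hw a pW (b ≫ e.inv) νW fW sq₁ ?_ c₁ ?_
  · exact sq₂.of_iso (Iso.refl _) e.symm (Iso.refl _) (Iso.refl _) (by simp) (by simp) (by simp [e₂]) (by simp)
  · rw [← Category.assoc, c₂, Category.assoc, ← h₁, Category.assoc, e.hom_inv_id, Category.comp_id]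

/-- A stable normalization stays stable after a smooth base change. -/
theorem IsUN.baseChange (h : IsUN π ν f') {Y PY XY : Sp S} (y : Y ⟶ X) (hy : RepWith @Smooth y) {a : PY ⟶ P}
    {pY : PY ⟶ Y} {b : XY ⟶ X'} {νY : XY ⟶ Y} {fY : PY ⟶ XY} (sq₁ : IsPullback a pY π y)
    (sq₂ : IsPullback b νY ν y) (c₁ : fY ≫ νY = pY) (c₂ : fY ≫ b = a ≫ f') : IsUN pY νY fY := by
  refine ⟨c₁, AlgSpDec.isIntegralMor_iff_repWith.2
    (repWith_of_isPullback sq₂ (AlgSpDec.isIntegralMor_iff_repWith.1 h.integral)),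
    fun W hW w hw PW XW a' pW b' νW fW sq₁' sq₂' c₁' c₂' => ?_⟩
  exact h.bc hW (w ≫ y) (repWith_comp hw hy) (a' ≫ a) pW (b' ≫ b) νW fW (sq₁'.paste_horiz sq₁)
    (sq₂'.paste_horiz sq₂) c₁' (by rw [← Category.assoc, c₂', Category.assoc, c₂, Category.assoc])

end Groth.Agent.NormSp
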