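import Groth.Agent.NormSp.Aff
import Groth.Agent.NormSp.Basic
import Groth.Agent.AlgSpDec.LimDescent
import Groth.Agent.AlgSpLib.LocalBaseTop

/-!
# Stable normalizations over affine schemes
-/

set_option autoImplicit false
set_option backward.isDefEq.respectTransparency false
set_option backward.isDefEq.respectTransparency.types false

universe u

open CategoryTheory CategoryTheory.Limits AlgebraicGeometry Opposite AlgSp Groth.Agent.AlgSpLib

namespace Groth.Agent.NormSp

variable {S : Scheme.{u}} {P : Sp S} {U : Over S} {π : P ⟶ (yon S).obj U}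

theorem isPullback_left {A B C D : Over S} {p : A ⟶ B} {q : A ⟶ C} {f : B ⟶ D} {g : C ⟶ D}
    (h : IsPullback p q f g) : IsPullback p.left q.left f.left g.left := h.map (Over.forget S)

/-- A quasi-compact quasi-separated space over an affine scheme has an affine presentation. -/
theorem exists_pres [IsAffine U.left] (_hP : IsAlgSpace P) (hqc : IsQuasiCompactMor π) (hqs : IsQuasiSeparatedMor π) :
    ∃ (V W Q : Over S) (a : (yon S).obj V ⟶ P) (v : V ⟶ U) (ω : W ⟶ Q) (r₁ r₂ : Q ⟶ V),
      Pres π a v ω r₁ r₂ := by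
  have hPqc : IsQuasiCompactSp P := by
    have : CompactSpace U.left := inferInstance
    exact hqc (IsAlgSpace.yon_obj U) (isQuasiCompactSp_yon U) (𝟙 _) (𝟙 P) π
      (IsPullback.of_horiz_isIso ⟨by simp⟩)
  obtain ⟨V, a, hV, hae, has⟩ := AlgSpDec.exists_affine_atlas hPqc
  obtain ⟨v, hv⟩ := (yon S).map_surjective (a ≫ π)
  let Q₀ := pullback v v
  let g : (yon S).obj Q₀ ⟶ pullback π π :=
    pullback.lift ((yon S).map (pullback.fst v v) ≫ a) ((yon S).map (pullback.snd v v) ≫ a) (by
      rw [Category.assoc, Category.assoc, ← hv, ← Functor.map_comp, ← Functor.map_comp, pullback.condition])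
  let Q := hqs.rep.pullback g
  let i : Q ⟶ Q₀ := hqs.rep.snd g
  have sq : IsPullback (hqs.rep.fst g) ((yon S).map i) (pullback.diagonal π) g := hqs.rep.isPullback g
  have : QuasiCompact i.left := hqs.property _ _ _ sq
  have : IsAffine Q₀.left := IsAffine.of_isPullback (isPullback_left (IsPullback.of_hasPullback v v))
  have : CompactSpace Q.left := QuasiCompact.compactSpace_of_compactSpace i.left
  obtain ⟨W, ω', hW, hωe, hωs⟩ := AlgSpDec.exists_affine_atlas (isQuasiCompactSp_yon Q)
  obtain ⟨ω, rfl⟩ := (yon S).map_surjective ω'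
  have hωe' : Etale ω.left := (repWith_yon_map_iff _ ω).1 hωe
  have h₁ : hqs.rep.fst g = (yon S).map (i ≫ pullback.fst v v) ≫ a := by
    have := congrArg (· ≫ pullback.fst π π) sq.w
    simpa [g] using this
  have h₂ : hqs.rep.fst g = (yon S).map (i ≫ pullback.snd v v) ≫ a := by
    have := congrArg (· ≫ pullback.snd π π) sq.w
    simpa [g] using this
  refine ⟨V, W, Q, a, v, ω, i ≫ pullback.fst v v, i ≫ pullback.snd v v,
    { affU := ‹_›, affV := hV, affW := hW, etale := hae, surj := has, ha := hv.symm, w := h₁.symm.trans h₂,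
      lift := fun T x y hxy => ?_,
      ωflat := inferInstance, ωfp := inferInstance, ωsurj := (repWith_yon_map_iff _ ω).1 hωs }⟩
  have hxyv : x ≫ v = y ≫ v := (yon S).map_injective (by
    rw [Functor.map_comp, Functor.map_comp, hv, ← Category.assoc, hxy, Category.assoc])
  let q : T ⟶ Q := hqs.rep.lift (g := g) ((yon S).map x ≫ a) (pullback.lift x y hxyv) (by
    apply pullback.hom_ext
    · simp [g, ← Functor.map_comp_assoc]
    · simp [g, ← Functor.map_comp_assoc, hxy])
  have hq : q ≫ i = pullback.lift x y hxyv := hqs.rep.lift_snd _ _ _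
  exact ⟨q, by rw [← Category.assoc, hq, pullback.lift_fst], by rw [← Category.assoc, hq, pullback.lift_snd]⟩

/-- Over an affine scheme a stable normalization exists. -/
theorem exists_isUN_affine [IsAffine U.left] (hP : IsAlgSpace P) (hqc : IsQuasiCompactMor π)
    (hqs : IsQuasiSeparatedMor π) :
    ∃ (N : Over S) (ν : N ⟶ U) (f' : P ⟶ (yon S).obj N), IsUN π ((yon S).map ν) f' ∧
      IsRelNormalization π ((yon S).map ν) f' := by
  obtain ⟨V, W, Q, a, v, ω, r₁, r₂, h⟩ := exists_pres hP hqc hqs
  have := h.affV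
  have := h.affW
  have hr : r₁ ≫ v = r₂ ≫ v := (yon S).map_injective (by
    rw [Functor.map_comp, Functor.map_comp, ← h.ha, ← Category.assoc, h.w, Category.assoc])
  obtain ⟨N, ν, n, hn⟩ := exists_isNormAff (v := v) h.affU (α := ω ≫ r₁) (β := ω ≫ r₂)
    (by rw [Category.assoc, Category.assoc, hr])
  have := hn.affN
  obtain ⟨f', hf'⟩ := h.exists_desc n hn.w₂
  have hN := hn.isRelNormalization h hf'
  refine ⟨N, ν, f', ⟨hN.1, hN.2.1, fun U' hU' w hw PW XW aP pW bX νW fW sq₁ sq₂ c₁ c₂ => ?_⟩, hN⟩
  obtain ⟨g, rfl⟩ := (yon S).map_surjective w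
  have hg : Smooth g.left := (repWith_yon_map_iff _ g).1 hw
  -- the pulled back presentation
  let V' := pullback v g
  let pV : V' ⟶ V := pullback.fst v g
  let v' : V' ⟶ U' := pullback.snd v g
  have sqV : IsPullback pV v' v g := IsPullback.of_hasPullback v g
  let Q' := pullback (r₁ ≫ v) g
  let pQ : Q' ⟶ Q := pullback.fst (r₁ ≫ v) g
  have sqQ : IsPullback pQ (pullback.snd (r₁ ≫ v) g) (r₁ ≫ v) g := IsPullback.of_hasPullback _ g
  let W' := pullback ω pQ
  let pW' : W' ⟶ W := pullback.fst ω pQ
  let ω' : W' ⟶ Q' := pullback.snd ω pQ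
  have sqW : IsPullback pW' (ω' ≫ pullback.snd (r₁ ≫ v) g) (ω ≫ r₁ ≫ v) g :=
    (IsPullback.of_hasPullback ω pQ).paste_vert sqQ
  let r₁' : Q' ⟶ V' := pullback.lift (pQ ≫ r₁) (pullback.snd (r₁ ≫ v) g) (by
    rw [Category.assoc]; exact pullback.condition)
  let r₂' : Q' ⟶ V' := pullback.lift (pQ ≫ r₂) (pullback.snd (r₁ ≫ v) g) (by
    rw [Category.assoc, ← hr]; exact pullback.condition)
  have hr₁ : r₁' ≫ pV = pQ ≫ r₁ := pullback.lift_fst _ _ _
  have hr₂ : r₂' ≫ pV = pQ ≫ r₂ := pullback.lift_fst _ _ _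
  have hr₁v : r₁' ≫ v' = pullback.snd (r₁ ≫ v) g := pullback.lift_snd _ _ _
  have hr₂v : r₂' ≫ v' = pullback.snd (r₁ ≫ v) g := pullback.lift_snd _ _ _
  let a' : (yon S).obj V' ⟶ PW := sq₁.lift ((yon S).map pV ≫ a) ((yon S).map v') (by
    rw [Category.assoc, h.ha, ← Functor.map_comp, ← Functor.map_comp, sqV.w])
  have ha'₁ : a' ≫ aP = (yon S).map pV ≫ a := sq₁.lift_fst _ _ _
  have ha'₂ : a' ≫ pW = (yon S).map v' := sq₁.lift_snd _ _ _
  have sqa : IsPullback ((yon S).map pV) a' a aP := by
    refine IsPullback.of_bot ?_ ha'₁.symm sq₁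
    rw [ha'₂, h.ha]
    exact sqV.map (yon S)
  have : IsAffine V'.left := IsAffine.of_isPullback (isPullback_left sqV)
  have : IsAffine W'.left := IsAffine.of_isPullback (isPullback_left sqW)
  have := h.ωflat
  have := h.ωfp
  have := h.ωsurj
  have sqω := isPullback_left (IsPullback.of_hasPullback ω pQ)
  have h' : Pres pW a' v' ω' r₁' r₂' :=
    { affU := hU', affV := ‹_›, affW := ‹_›, etale := repWith_of_isPullback sqa h.etale
      surj := repWith_of_isPullback sqa h.surj, ha := ha'₂
      w := by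
        apply sq₁.hom_ext
        · rw [Category.assoc, Category.assoc, ha'₁, ← Functor.map_comp_assoc, ← Functor.map_comp_assoc, hr₁, hr₂,
            Functor.map_comp_assoc, Functor.map_comp_assoc, h.w]
        · rw [Category.assoc, Category.assoc, ha'₂, ← Functor.map_comp, ← Functor.map_comp, hr₁v, hr₂v]
      lift := fun T x y hxy => by
        obtain ⟨q, hq₁, hq₂⟩ := h.lift T (x ≫ pV) (y ≫ pV) (by
          rw [Functor.map_comp, Functor.map_comp, Category.assoc, Category.assoc, ← ha'₁, reassoc_of% hxy])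
        have hv'' : x ≫ v' = y ≫ v' := (yon S).map_injective (by
          rw [Functor.map_comp, Functor.map_comp, ← ha'₂, reassoc_of% hxy])
        refine ⟨pullback.lift q (x ≫ v') (by rw [reassoc_of% hq₁, sqV.w, Category.assoc]), ?_, ?_⟩
        · apply pullback.hom_ext
          · rw [Category.assoc, hr₁, pullback.lift_fst_assoc, hq₁]
          · rw [Category.assoc, hr₁v, pullback.lift_snd]
        · apply pullback.hom_ext
          · rw [Category.assoc, hr₂, pullback.lift_fst_assoc, hq₂]
          · rw [Category.assoc, hr₂v, pullback.lift_snd, hv'']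
      ωflat := MorphismProperty.of_isPullback (P := @Flat) sqω inferInstance
      ωfp := MorphismProperty.of_isPullback (P := @LocallyOfFinitePresentation) sqω inferInstance
      ωsurj := MorphismProperty.of_isPullback (P := @Surjective) sqω inferInstance }
  -- the pulled back algebra
  let N' := pullback ν g
  let pN : N' ⟶ N := pullback.fst ν g
  let ν' : N' ⟶ U' := pullback.snd ν g
  have sqN : IsPullback pN ν' ν g := IsPullback.of_hasPullback ν g
  let n' : V' ⟶ N' := pullback.lift (pV ≫ n) v' (by rw [Category.assoc, hn.w₁]; exact sqV.w)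
  have hn'₁ : n' ≫ pN = pV ≫ n := pullback.lift_fst _ _ _
  have hn'₂ : n' ≫ ν' = v' := pullback.lift_snd _ _ _
  have happ : ∀ {A B C : Over S} (p : A ⟶ B) (q : B ⟶ C), (p ≫ q).left.appTop = q.left.appTop ≫ p.left.appTop :=
    fun p q => by rw [Over.comp_left, Scheme.Hom.comp_appTop]
  have hnorm : IsNormAff v' (ω' ≫ r₁') (ω' ≫ r₂') ν' n' := by
    have hαp : (ω' ≫ r₁') ≫ pV = pW' ≫ ω ≫ r₁ := by
      rw [Category.assoc, hr₁, ← Category.assoc, ← pullback.condition, Category.assoc]
    have hβp : (ω' ≫ r₂') ≫ pV = pW' ≫ ω ≫ r₂ := by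
      rw [Category.assoc, hr₂, ← Category.assoc, ← pullback.condition, Category.assoc]
    obtain ⟨i₁, i₂⟩ := pushout_normal (φ := g.left.appTop) ((HasRingHomProperty.iff_of_isAffine (P := @Smooth)).1 hg)
      (vB := v.left.appTop) (vC := ν.left.appTop) (vE := (ω ≫ r₁ ≫ v).left.appTop) (n := n.left.appTop)
      (α := (ω ≫ r₁).left.appTop) (β := (ω ≫ r₂).left.appTop)
      (by rw [← happ, hn.w₁])
      (by rw [← happ, Category.assoc])
      (by rw [← happ, Category.assoc, hr])
      hn.inj hn.range
      (isPushout_appTop_of_isPullback (isPullback_left sqV).flip)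
      (isPushout_appTop_of_isPullback (isPullback_left sqN).flip)
      (isPushout_appTop_of_isPullback (isPullback_left sqW).flip)
      (n' := n'.left.appTop) (α' := (ω' ≫ r₁').left.appTop) (β' := (ω' ≫ r₂').left.appTop)
      (by simp only [← happ, hn'₂])
      (by simp only [← happ, hn'₁])
      (by simp only [← happ, Category.assoc, hr₁v])
      (by simp only [← happ, hαp])
      (by simp only [← happ, Category.assoc, hr₂v])
      (by simp only [← happ, hβp])
    refine ⟨IsAffine.of_isPullback (isPullback_left sqN),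
      MorphismProperty.of_isPullback (P := @IsIntegralHom) (isPullback_left sqN) hn.integral, hn'₂, ?_, i₁, i₂⟩
    apply pullback.hom_ext
    · rw [Category.assoc, Category.assoc _ n', hn'₁, ← Category.assoc, ← Category.assoc _ pV, hαp, hβp,
        Category.assoc pW', Category.assoc pW', hn.w₂]
    · rw [Category.assoc, Category.assoc _ n', hn'₂, Category.assoc, hr₁v, Category.assoc, hr₂v]
  obtain ⟨f'', hf''⟩ := h'.exists_desc n' hnorm.w₂
  have hnN := hnorm.isRelNormalization h' hf''
  -- compare with the given pullback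
  let e := (sqN.map (yon S)).isoIsPullback _ _ sq₂
  have := h'.epi
  refine norm_of_iso hnN e ?_ (IsPullback.isoIsPullback_hom_snd _ _ _ _)
  rw [← cancel_epi a', ← Category.assoc, hf'']
  apply sq₂.hom_ext
  · rw [Category.assoc, IsPullback.isoIsPullback_hom_fst, ← Functor.map_comp, hn'₁, Category.assoc, c₂,
      reassoc_of% ha'₁, hf', Functor.map_comp]
  · rw [Category.assoc, IsPullback.isoIsPullback_hom_snd, ← Functor.map_comp, hn'₂, Category.assoc, c₁, ha'₂]

end Groth.Agent.NormSp
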