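import Mathlib.RingTheory.Smooth.IntegralClosure
import Mathlib.RingTheory.Flat.Equalizer
import Mathlib.Algebra.Category.Ring.Constructions
import Mathlib.RingTheory.RingHom.Smooth

/-!
# Integral closures inside equalizers commute with smooth base change
-/

universe u

open CategoryTheory CategoryTheory.Limits TensorProduct

namespace Groth.Agent.NormSp

section Tensor

variable {A A' B C E : Type u} [CommRing A] [CommRing A'] [CommRing B] [CommRing C] [CommRing E]
  [Algebra A A'] [Algebra A B] [Algebra A C] [Algebra A E] [Algebra.Smooth A A']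

/-- The elements integral over the new base and equalised come from the smooth base change. -/
theorem mem_range_map (α β : B →ₐ[A] E) (n : C →ₐ[A] B)
    (hn : ∀ b, IsIntegral A b → α b = β b → b ∈ n.range) (x : A' ⊗[A] B) (hx : IsIntegral A' x)
    (he : Algebra.TensorProduct.map (AlgHom.id A A') α x = Algebra.TensorProduct.map (AlgHom.id A A') β x) :
    x ∈ (Algebra.TensorProduct.map (AlgHom.id A A') n).range := by
  let I := integralClosure A B
  obtain ⟨y, hy⟩ := (TensorProduct.toIntegralClosure_bijective_of_smooth (R := A) (S := A') (B := B)).2 ⟨x, hx⟩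
  have hy' : Algebra.TensorProduct.map (AlgHom.id A A') I.val y = x := by
    have := congrArg Subtype.val hy
    exact this
  let α' : I →ₐ[A] E := α.comp I.val
  let β' : I →ₐ[A] E := β.comp I.val
  have hα : ∀ (γ : B →ₐ[A] E) (w : A' ⊗[A] I), Algebra.TensorProduct.map (AlgHom.id A A') (γ.comp I.val) w =
      Algebra.TensorProduct.map (AlgHom.id A A') γ (Algebra.TensorProduct.map (AlgHom.id A A') I.val w) :=
    fun γ w => by
      induction w with
      | zero => simp
      | tmul => simp
      | add a b ha hb => simp [ha, hb]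
  have hey : Algebra.TensorProduct.map (AlgHom.id A A') α' y = Algebra.TensorProduct.map (AlgHom.id A A') β' y := by
    simp only [α', β', hα, hy']
    exact he
  let z := (AlgHom.tensorEqualizerEquiv A' A' α' β').symm ⟨y, hey⟩
  have hz : Algebra.TensorProduct.map (AlgHom.id A A') (AlgHom.equalizer α' β').val z = y := by
    have := congrArg Subtype.val ((AlgHom.tensorEqualizerEquiv A' A' α' β').apply_symm_apply ⟨y, hey⟩)
    rw [AlgHom.tensorEqualizerEquiv_apply, AlgHom.coe_tensorEqualizer] at this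
    exact this
  rw [← hy', ← hz]
  clear_value z
  clear hz hey hy hy'
  induction z with
  | zero => simp
  | tmul a d =>
    obtain ⟨c, hc⟩ := hn (d : I) (d : I).2 d.2
    refine ⟨a ⊗ₜ c, ?_⟩
    simp only [Algebra.TensorProduct.map_tmul, AlgHom.coe_id, id_eq, Subalgebra.coe_val]
    exact congrArg (a ⊗ₜ[A] ·) hc
  | add a b ha hb =>
    rw [map_add, map_add]
    exact add_mem ha hb

end Tensor

/-- The smooth base change of the integral elements of an equalizer, as pushouts of rings. -/
theorem pushout_normal {A A' B B' C C' E E' : CommRingCat.{u}} {φ : A ⟶ A'} (hφ : φ.hom.Smooth)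
    {vB : A ⟶ B} {vC : A ⟶ C} {vE : A ⟶ E} {n : C ⟶ B} {α β : B ⟶ E}
    (hnv : vC ≫ n = vB) (hα : vB ≫ α = vE) (hβ : vB ≫ β = vE)
    (hinj : Function.Injective n.hom)
    (hn : ∀ b, vB.hom.IsIntegralElem b → α b = β b → b ∈ Set.range n.hom)
    {pB : B ⟶ B'} {vB' : A' ⟶ B'} {pC : C ⟶ C'} {vC' : A' ⟶ C'} {pE : E ⟶ E'} {vE' : A' ⟶ E'}
    (sB : IsPushout φ vB vB' pB) (sC : IsPushout φ vC vC' pC) (sE : IsPushout φ vE vE' pE)
    {n' : C' ⟶ B'} {α' β' : B' ⟶ E'}
    (hn₁ : vC' ≫ n' = vB') (hn₂ : pC ≫ n' = n ≫ pB)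
    (hα₁ : vB' ≫ α' = vE') (hα₂ : pB ≫ α' = α ≫ pE) (hβ₁ : vB' ≫ β' = vE') (hβ₂ : pB ≫ β' = β ≫ pE) :
    Function.Injective n'.hom ∧ ∀ b, vB'.hom.IsIntegralElem b → α' b = β' b → b ∈ Set.range n'.hom := by
  algebraize [φ.hom, vB.hom, vC.hom, vE.hom]
  let nA : C →ₐ[A] B := { n.hom with commutes' := fun a => RingHom.congr_fun (congrArg CommRingCat.Hom.hom hnv) a }
  let αA : B →ₐ[A] E := { α.hom with commutes' := fun a => RingHom.congr_fun (congrArg CommRingCat.Hom.hom hα) a }
  let βA : B →ₐ[A] E := { β.hom with commutes' := fun a => RingHom.congr_fun (congrArg CommRingCat.Hom.hom hβ) a }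
  let eB := (CommRingCat.isPushout_tensorProduct A A' B).isoIsPushout _ _ sB
  let eC := (CommRingCat.isPushout_tensorProduct A A' C).isoIsPushout _ _ sC
  let eE := (CommRingCat.isPushout_tensorProduct A A' E).isoIsPushout _ _ sE
  let m : CommRingCat.of (A' ⊗[A] C) ⟶ CommRingCat.of (A' ⊗[A] B) :=
    CommRingCat.ofHom (Algebra.TensorProduct.map (AlgHom.id A A') nA).toRingHom
  have hm : eC.hom ≫ n' = m ≫ eB.hom := by
    refine (CommRingCat.isPushout_tensorProduct A A' C).hom_ext ?_ ?_
    · rw [IsPushout.inl_isoIsPushout_hom_assoc, hn₁, ← IsPushout.inl_isoIsPushout_hom _ _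
        (CommRingCat.isPushout_tensorProduct A A' B) sB, ← Category.assoc]
      congr 1
      ext a
      change a ⊗ₜ[A] (1 : B) = Algebra.TensorProduct.map (AlgHom.id A A') nA (a ⊗ₜ[A] (1 : C))
      simp
    · rw [IsPushout.inr_isoIsPushout_hom_assoc, hn₂, ← IsPushout.inr_isoIsPushout_hom _ _
        (CommRingCat.isPushout_tensorProduct A A' B) sB, ← Category.assoc, ← Category.assoc]
      congr 1
  have hg : ∀ (γ : B ⟶ E) (γA : B →ₐ[A] E) (γ' : B' ⟶ E'), (∀ b, γA b = γ.hom b) → vB' ≫ γ' = vE' →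
      pB ≫ γ' = γ ≫ pE →
      eB.hom ≫ γ' = CommRingCat.ofHom (Algebra.TensorProduct.map (AlgHom.id A A') γA).toRingHom ≫ eE.hom := by
    intro γ γA γ' hγ h₁ h₂
    refine (CommRingCat.isPushout_tensorProduct A A' B).hom_ext ?_ ?_
    · rw [IsPushout.inl_isoIsPushout_hom_assoc, h₁, ← IsPushout.inl_isoIsPushout_hom _ _
        (CommRingCat.isPushout_tensorProduct A A' E) sE, ← Category.assoc]
      congr 1
      ext a
      change a ⊗ₜ[A] (1 : E) = Algebra.TensorProduct.map (AlgHom.id A A') γA (a ⊗ₜ[A] (1 : B))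
      simp
    · rw [IsPushout.inr_isoIsPushout_hom_assoc, h₂, ← IsPushout.inr_isoIsPushout_hom _ _
        (CommRingCat.isPushout_tensorProduct A A' E) sE, ← Category.assoc, ← Category.assoc]
      congr 1
      ext a
      change (1 : A') ⊗ₜ[A] γ.hom a = Algebra.TensorProduct.map (AlgHom.id A A') γA ((1 : A') ⊗ₜ[A] a)
      simp [hγ]
  have bB := ConcreteCategory.bijective_of_isIso eB.hom
  have bC := ConcreteCategory.bijective_of_isIso eC.hom
  have bE := ConcreteCategory.bijective_of_isIso eE.hom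
  have hm' : ∀ z, n' (eC.hom z) = eB.hom (m z) := fun z => CategoryTheory.ConcreteCategory.congr_hom hm z
  have hflat : Module.Flat A A' := inferInstance
  constructor
  · intro x y h
    obtain ⟨x, rfl⟩ := bC.2 x
    obtain ⟨y, rfl⟩ := bC.2 y
    refine congrArg _ ?_
    have := bB.1 (((hm' x).symm.trans h).trans (hm' y))
    exact Module.Flat.lTensor_preserves_injective_linearMap (M := A') nA.toLinearMap hinj this
  · intro b hb he
    obtain ⟨x, rfl⟩ := bB.2 b
    have h₁ := CategoryTheory.ConcreteCategory.congr_hom (hg α αA α' (fun _ => rfl) hα₁ hα₂) x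
    have h₂ := CategoryTheory.ConcreteCategory.congr_hom (hg β βA β' (fun _ => rfl) hβ₁ hβ₂) x
    have hx : IsIntegral A' x := by
      have hl : vB'.hom = eB.hom.hom.comp (algebraMap A' (A' ⊗[A] B)) :=
        congrArg CommRingCat.Hom.hom (IsPushout.inl_isoIsPushout_hom _ _
        (CommRingCat.isPushout_tensorProduct A A' B) sB).symm
      obtain ⟨p, hp, hp'⟩ := hb
      refine ⟨p, hp, bB.1 ?_⟩
      rw [map_zero, ← hp', hl, ← Polynomial.hom_eval₂]
    have he' := bE.1 ((h₁.symm.trans he).trans h₂)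
    obtain ⟨z, hz⟩ := mem_range_map αA βA nA (fun b hb₁ hb₂ => hn b hb₁ hb₂) x hx he'
    exact ⟨eC.hom z, (hm' z).trans (congrArg eB.hom hz)⟩

end Groth.Agent.NormSp
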