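import Groth.Agent.NormSp.Link
import Groth.Agent.AlgSpDec.LqfQuot
import Groth.Agent.AlgSpDec.LqfSplitZ
import Groth.Agent.AlgSpLib.AffineDescProps

/-!
# Descent of stable normalizations along an etale atlas
-/

set_option autoImplicit false
set_option backward.isDefEq.respectTransparency false
set_option backward.isDefEq.respectTransparency.types false

universe u

open CategoryTheory CategoryTheory.Limits AlgebraicGeometry Opposite AlgSp Groth.Agent.AlgSpLib

namespace Groth.Agent.NormSp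

variable {S : Scheme.{u}} {P X PU : Sp S} {f : P ⟶ X} {U N : Over S} {a : PU ⟶ P} {π : PU ⟶ (yon S).obj U}
  {u : (yon S).obj U ⟶ X} {ν : N ⟶ U} {fU : PU ⟶ (yon S).obj N}

/-- A stable normalization over an atlas descends. -/
theorem exists_descend (hX : IsAlgSpace X) (sq : IsPullback a π f u)
    (hue : RepWith @Etale u) (hus : RepWith @Surjective u) (hUN : IsUN π ((yon S).map ν) fU) :
    ∃ (X' : Sp S) (ν' : X' ⟶ X) (f' : P ⟶ X') (q : (yon S).obj N ⟶ X'), IsAlgSpace X' ∧ IsIntegralMor ν' ∧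
      f' ≫ ν' = f ∧ IsPullback q ((yon S).map ν) ν' u ∧ fU ≫ q = a ≫ f' := by
  let R := hue.rep.pullback u
  let t : R ⟶ U := hue.rep.fst' u
  let s : R ⟶ U := hue.rep.snd u
  have sqR : IsPullback ((yon S).map t) ((yon S).map s) u u := hue.rep.isPullback' u
  have : Etale s.left := hue.property _ _ _ sqR
  have : Etale t.left := hue.property _ _ _ sqR.flip
  have hts : RepWith @Smooth ((yon S).map t) := smooth_of_etale ((repWith_yon_map_iff _ t).2 ‹_›)
  have hss : RepWith @Smooth ((yon S).map s) := smooth_of_etale ((repWith_yon_map_iff _ s).2 ‹_›)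
  have hUalg : IsAlgSpace ((yon S).obj U) := IsAlgSpace.yon_obj U
  obtain ⟨H, hH, hHi⟩ := exists_link (f := f) hUN sq (IsAlgSpace.yon_obj R) hts hss sqR.w
  -- the relation
  let NR := pullback ν t
  let t' : NR ⟶ N := pullback.fst ν t
  let σR : NR ⟶ R := pullback.snd ν t
  have sqN : IsPullback ((yon S).map t') ((yon S).map σR) ((yon S).map ν) ((yon S).map t) :=
    (IsPullback.of_hasPullback ν t).map (yon S)
  obtain ⟨s', hs'⟩ := (yon S).map_surjective
    (sqN.isoPullback.hom ≫ H ≫ pullback.fst ((yon S).map ν) ((yon S).map s))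
  have hν : ∀ {T : Over S} (r : T ⟶ NR), (yon S).map (r ≫ t') ≫ (yon S).map ν =
      (yon S).map (r ≫ σR) ≫ (yon S).map t := fun r => by
    rw [← Functor.map_comp, ← Functor.map_comp, Category.assoc, Category.assoc, pullback.condition]
  have key : ∀ {T : Over S} (r : T ⟶ NR),
      (yon S).map (r ≫ s') = act H ((yon S).map (r ≫ t')) ((yon S).map (r ≫ σR)) (hν r) := by
    intro T r
    rw [Functor.map_comp, hs', act, ← Category.assoc]
    congr 1
    apply pullback.hom_ext
    · rw [pullback.lift_fst, Category.assoc, sqN.isoPullback_hom_fst, ← Functor.map_comp]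
    · rw [pullback.lift_snd, Category.assoc, sqN.isoPullback_hom_snd, ← Functor.map_comp]
  have hσs : ∀ {T : Over S} (r : T ⟶ NR), r ≫ s' ≫ ν = (r ≫ σR) ≫ s := fun r => (yon S).map_injective (by
    rw [← Category.assoc, Functor.map_comp, Functor.map_comp _ (r ≫ σR) s, key, act_ν hH])
  have hpt : ∀ {T : Over S} (x : T ⟶ N) (τ : T ⟶ R) (_ : x ≫ ν = τ ≫ t),
      ∃ r : T ⟶ NR, r ≫ t' = x ∧ r ≫ σR = τ := fun x τ h =>
    ⟨pullback.lift x τ h, pullback.lift_fst _ _ _, pullback.lift_snd _ _ _⟩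
  have hyp : ∀ {T : Over S} {x : T ⟶ N} {τ : T ⟶ R}, x ≫ ν = τ ≫ t →
      (yon S).map x ≫ (yon S).map ν = (yon S).map τ ≫ (yon S).map t := fun h => by
    rw [← Functor.map_comp, ← Functor.map_comp, h]
  -- the diagonal acts trivially
  obtain ⟨δ, hδ₁, hδ₂⟩ := exists_pair_lift sqR (𝟙 U) (𝟙 U) rfl
  have hrefl : ∀ {T : Over S} (x : T ⟶ N) (h : x ≫ ν = (x ≫ ν ≫ δ) ≫ t),
      act H ((yon S).map x) ((yon S).map (x ≫ ν ≫ δ)) (hyp h) = (yon S).map x := by
    intro T x h
    obtain ⟨Hδ, hHδ, hnat⟩ := hH.baseChange ((yon S).map δ) (j := 𝟙 _) (j' := 𝟙 _)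
      (by rw [← Functor.map_comp, hδ₁, CategoryTheory.Functor.map_id])
      (by rw [← Functor.map_comp, hδ₂, CategoryTheory.Functor.map_id])
    have he : Hδ = 𝟙 _ := Link.unique (f := f) hUN sq hUalg hUalg (repWith_of_isIso _ _) rfl hHδ
      (Link.id (f := f) hUN.fac sq)
    have hx : (yon S).map x ≫ (yon S).map ν = (yon S).map (x ≫ ν) ≫ 𝟙 _ := by
      rw [Category.comp_id, Functor.map_comp]
    have h₁ := hnat ((yon S).map x) ((yon S).map (x ≫ ν)) hx
      (by rw [← Functor.map_comp, ← Functor.map_comp, ← Functor.map_comp, Category.assoc x, ← h])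
    subst he
    rw [act_id] at h₁
    simp only [← Functor.map_comp, Category.assoc] at h₁
    exact h₁.symm
  have hR : IsEqvRel s' t' := by
    refine { injective := fun T r r' h₁ h₂ => pullback.hom_ext h₁ ?_, equivalence := fun T => ⟨fun x => ?_, ?_, ?_⟩ }
    · refine (yon S).map_injective (sqR.hom_ext ?_ ?_)
      · rw [← Functor.map_comp, ← Functor.map_comp, Category.assoc, Category.assoc, ← pullback.condition,
          reassoc_of% h₁]
      · rw [← Functor.map_comp, ← Functor.map_comp, ← hσs, ← hσs, reassoc_of% h₂]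
    · have h : x ≫ ν = (x ≫ ν ≫ δ) ≫ t := by rw [Category.assoc, Category.assoc, hδ₁, Category.comp_id]
      obtain ⟨r, hr₁, hr₂⟩ := hpt x _ h
      refine ⟨r, hr₁, (yon S).map_injective ?_⟩
      rw [key]
      simp only [hr₁, hr₂]
      exact hrefl x h
    · rintro x y ⟨r, rfl, rfl⟩
      obtain ⟨σ, hσ₁, hσ₂⟩ := exists_pair_lift sqR s t sqR.w.symm
      have h : (r ≫ s') ≫ ν = ((r ≫ σR) ≫ σ) ≫ t := by
        rw [Category.assoc, hσs, Category.assoc (r ≫ σR) σ, hσ₁]
      obtain ⟨r₂, hr₁, hr₂⟩ := hpt _ _ h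
      refine ⟨r₂, hr₁, (yon S).map_injective ?_⟩
      obtain ⟨Hσ, hHσ, hnat⟩ := hH.baseChange ((yon S).map σ) (j := (yon S).map s) (j' := (yon S).map t)
        (by rw [← Functor.map_comp, hσ₁]) (by rw [← Functor.map_comp, hσ₂])
      have he : H ≫ Hσ = 𝟙 _ := Link.unique (f := f) hUN sq hUalg (IsAlgSpace.yon_obj R) hts rfl
        (hH.comp hHσ hUN.fac sq sqR.w) (Link.id (f := f) hUN.fac sq)
      have h₂ := act_comp (H' := Hσ) hH ((yon S).map (r ≫ t')) ((yon S).map (r ≫ σR)) (hν r)
      simp only [he, act_id] at h₂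
      rw [key]
      simp only [hr₁, hr₂, Functor.map_comp _ (r ≫ σR) σ]
      rw [← hnat _ _ (by rw [← Functor.map_comp, ← Functor.map_comp, Category.assoc, hσs]), h₂]
      simp only [key]
    · rintro x y z ⟨r, rfl, hy⟩ ⟨r', rfl, rfl⟩
      let R₂ := pullback s t
      let p₁ : R₂ ⟶ R := pullback.fst s t
      let p₂ : R₂ ⟶ R := pullback.snd s t
      have hp : (r ≫ σR) ≫ s = (r' ≫ σR) ≫ t := by
        rw [← hσs, ← Category.assoc, hy, Category.assoc, Category.assoc, pullback.condition]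
      obtain ⟨m, hm₁, hm₂⟩ := exists_pair_lift sqR (p₁ ≫ t) (p₂ ≫ s) (by
        rw [Functor.map_comp, Category.assoc, sqR.w, ← Category.assoc, ← Functor.map_comp, pullback.condition,
          Functor.map_comp, Category.assoc, sqR.w, ← Category.assoc, ← Functor.map_comp])
      let μ : T ⟶ R₂ := pullback.lift (r ≫ σR) (r' ≫ σR) hp
      have hμ₁ : μ ≫ p₁ = r ≫ σR := pullback.lift_fst _ _ _
      have hμ₂ : μ ≫ p₂ = r' ≫ σR := pullback.lift_snd _ _ _
      have h : (r ≫ t') ≫ ν = (μ ≫ m) ≫ t := by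
        rw [Category.assoc μ, hm₁, ← Category.assoc μ, hμ₁, Category.assoc, Category.assoc, pullback.condition]
      obtain ⟨r₃, hr₁, hr₂⟩ := hpt _ _ h
      refine ⟨r₃, hr₁, (yon S).map_injective ?_⟩
      obtain ⟨H₁, hH₁, hn₁⟩ := hH.baseChange ((yon S).map p₁) (j := (yon S).map (p₁ ≫ t))
        (j' := (yon S).map (p₁ ≫ s)) (Functor.map_comp _ _ _) (Functor.map_comp _ _ _)
      obtain ⟨H₂, hH₂, hn₂⟩ := hH.baseChange ((yon S).map p₂) (j := (yon S).map (p₁ ≫ s))
        (j' := (yon S).map (p₂ ≫ s)) (by rw [← Functor.map_comp, pullback.condition]) (Functor.map_comp _ _ _)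
      obtain ⟨H₃, hH₃, hn₃⟩ := hH.baseChange ((yon S).map m) (j := (yon S).map (p₁ ≫ t))
        (j' := (yon S).map (p₂ ≫ s)) (by rw [← Functor.map_comp, hm₁]) (by rw [← Functor.map_comp, hm₂])
      have hp₁t : Etale (p₁ ≫ t).left := by
        have : Etale p₁.left := MorphismProperty.of_isPullback (P := @Etale)
          ((IsPullback.of_hasPullback s t).map (Over.forget S)).flip ‹Etale t.left›
        rw [Over.comp_left]
        infer_instance
      have e₁ : (yon S).map (p₁ ≫ t) ≫ u = (yon S).map (p₁ ≫ s) ≫ u := by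
        rw [Functor.map_comp, Functor.map_comp, Category.assoc, Category.assoc, sqR.w]
      have e₂ : (yon S).map (p₁ ≫ t) ≫ u = (yon S).map (p₂ ≫ s) ≫ u := by
        rw [e₁, pullback.condition, Functor.map_comp, Functor.map_comp, Category.assoc, Category.assoc, sqR.w]
      have he : H₁ ≫ H₂ = H₃ := Link.unique (f := f) hUN sq hUalg (IsAlgSpace.yon_obj R₂)
        (smooth_of_etale ((repWith_yon_map_iff _ _).2 hp₁t)) e₂ (hH₁.comp hH₂ hUN.fac sq e₁) hH₃
      have hx : (yon S).map (r ≫ t') ≫ (yon S).map ν = (yon S).map μ ≫ (yon S).map (p₁ ≫ t) := by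
        rw [← Functor.map_comp, ← Functor.map_comp, ← Category.assoc μ, hμ₁, Category.assoc, Category.assoc,
          pullback.condition]
      rw [key, key]
      simp only [hr₁, hr₂, Functor.map_comp _ μ m]
      rw [← hn₃ _ _ hx, ← he, act_comp hH₁, hn₂ _ _ _ (by
        rw [act_ν hH₁, ← Functor.map_comp, ← Functor.map_comp, ← Functor.map_comp, Category.assoc μ p₂,
          pullback.condition])]
      simp only [hn₁ _ _ hx (by rw [hx, Functor.map_comp, Category.assoc])]

      simp only [← Functor.map_comp, hμ₁, hμ₂, ← key, hy]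
  have hte : Etale t'.left := MorphismProperty.of_isPullback (P := @Etale)
    ((IsPullback.of_hasPullback ν t).map (Over.forget S)).flip ‹Etale t.left›
  have hse : Etale s'.left := by
    refine (repWith_yon_map_iff _ _).1 ?_
    rw [hs']
    exact repWith_comp (repWith_of_isIso _ _) (repWith_comp (repWith_of_isIso _ H)
      (repWith_fst _ ((repWith_yon_map_iff _ s).2 ‹Etale s.left›)))
  have hX' : IsAlgSpace (QuotSh.quot Scheme.fppfPrecoverage s' t') := AlgSpDec.isAlgSpace_quot hR
  obtain ⟨q, hqdef⟩ : ∃ q : (yon S).obj N ⟶ QuotSh.quot Scheme.fppfPrecoverage s' t',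
      q = AlgSpPts.quotMap s' t' := ⟨_, rfl⟩
  have sqq : IsPullback ((yon S).map t') ((yon S).map s') q q := by
    rw [hqdef]
    exact AlgSpPts.isPullback_quotMap hR
  have : Sheaf.IsLocallySurjective q := by
    rw [hqdef]
    have : Epi (QuotSh.quotπ Scheme.fppfPrecoverage s' t') := by
      unfold QuotSh.quotπ
      infer_instance
    exact (CategoryTheory.Sheaf.isLocallySurjective_iff_epi _).2 (epi_comp _ _)
  have : Epi q := (Sheaf.isLocallySurjective_iff_epi q).1 inferInstance
  obtain ⟨ν', hν'⟩ := AlgSpDec.exists_desc_of_kernelPair sqq ((yon S).map ν ≫ u) (by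
    have h₁ : s' ≫ ν = σR ≫ s := by simpa using hσs (𝟙 NR)
    rw [← Category.assoc, ← Category.assoc, ← Functor.map_comp, ← Functor.map_comp, h₁, pullback.condition,
      Functor.map_comp, Functor.map_comp, Category.assoc, Category.assoc, sqR.w])
  -- the square over the atlas is cartesian
  have hrel : ∀ {T : Over S} (x : T ⟶ N) (τ : T ⟶ R) (h : x ≫ ν = τ ≫ t) (y : T ⟶ N),
      (yon S).map y = act H ((yon S).map x) ((yon S).map τ) (hyp h) →
        (yon S).map x ≫ q = (yon S).map y ≫ q := by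
    intro T x τ h y hy
    obtain ⟨r, hr₁, hr₂⟩ := hpt x τ h
    have hs : r ≫ s' = y := (yon S).map_injective (by rw [key, hy]; simp only [hr₁, hr₂])
    rw [← hs, ← hr₁, Functor.map_comp, Functor.map_comp, Category.assoc, Category.assoc, sqq.w]
  let θ : (yon S).obj N ⟶ pullback ν' u := pullback.lift q ((yon S).map ν) hν'
  have : Mono θ := ⟨fun g₁ g₂ hg => AlgSpDec.EffDescentRep.hom_ext_yon fun T x => by
    have h₁ := congrArg (fun l => x ≫ l ≫ pullback.fst ν' u) hg
    have h₂ := congrArg (fun l => x ≫ l ≫ pullback.snd ν' u) hg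
    simp only [θ, Category.assoc, pullback.lift_fst, pullback.lift_snd] at h₁ h₂
    obtain ⟨y₁, hy₁⟩ := (yon S).map_surjective (x ≫ g₁)
    obtain ⟨y₂, hy₂⟩ := (yon S).map_surjective (x ≫ g₂)
    rw [← Category.assoc, ← Category.assoc x g₂, ← hy₁, ← hy₂] at h₁ h₂
    obtain ⟨r, rfl, rfl⟩ := exists_pair_lift sqq y₁ y₂ h₁
    have hνν : r ≫ t' ≫ ν = r ≫ s' ≫ ν := by
      rw [← Functor.map_comp, ← Functor.map_comp] at h₂
      simpa only [Category.assoc] using (yon S).map_injective h₂
    have hσ : r ≫ σR = ((r ≫ t') ≫ ν) ≫ δ := (yon S).map_injective (sqR.hom_ext (by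
        rw [← Functor.map_comp, ← Functor.map_comp, Category.assoc, Category.assoc _ δ, hδ₁, Category.comp_id,
          Category.assoc, pullback.condition]) (by
        rw [← Functor.map_comp, ← Functor.map_comp, Category.assoc _ δ, hδ₂, Category.comp_id, ← hσs,
          Category.assoc, hνν]))
    rw [← hy₁, ← hy₂, key]
    simp only [hσ, Category.assoc]
    have h : (r ≫ t') ≫ ν = ((r ≫ t') ≫ ν ≫ δ) ≫ t := by
      rw [Category.assoc (r ≫ t'), Category.assoc ν, hδ₁, Category.comp_id]
    have := hrefl (r ≫ t') h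
    simp only [Category.assoc] at this
    exact this.symm⟩
  have : Sheaf.IsLocallySurjective θ := isLocallySurjective_of_lifts θ fun T z => by
    obtain ⟨V, φ, x, hφ, hx⟩ := AlgSpDec.exists_fppf_lift_of_locallySurjective q (z ≫ pullback.fst ν' u)
    obtain ⟨x, rfl⟩ := (yon S).map_surjective x
    obtain ⟨w, hw⟩ := (yon S).map_surjective ((yon S).map φ ≫ z ≫ pullback.snd ν' u)
    obtain ⟨τ, hτ₁, hτ₂⟩ := exists_pair_lift sqR (x ≫ ν) w (by
      rw [hw, Functor.map_comp, Category.assoc, ← hν', reassoc_of% hx, Category.assoc, Category.assoc,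
        pullback.condition])
    obtain ⟨y, hy⟩ := (yon S).map_surjective (act H ((yon S).map x) ((yon S).map τ) (hyp hτ₁.symm))
    refine ⟨V, φ, (yon S).map y, hφ, pullback.hom_ext ?_ ?_⟩
    · rw [Category.assoc, pullback.lift_fst, Category.assoc, ← hx, hrel x τ hτ₁.symm y hy]
    · rw [Category.assoc, pullback.lift_snd, hy, act_ν hH, ← Functor.map_comp, hτ₂, hw, Category.assoc]
  have := isIso_of_mono_of_locallySurjective θ
  have sqν : IsPullback q ((yon S).map ν) ν' u :=
    (IsPullback.of_hasPullback ν' u).of_iso (asIso θ).symm (Iso.refl _) (Iso.refl _) (Iso.refl _)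
      (by simp [θ]) (by simp [θ]) (by simp) (by simp)
  have hint : IsIntegralMor ν' :=
    (isLocalOnBase_fpqc_isIntegralMor (fun _ : PUnit.{u+1} => (yon S).obj U) (fun _ => u) hX
      (fun _ => IsAlgSpace.yon_obj U)
      (isFpqcCover_of_isFppfCover hX (fun _ => IsAlgSpace.yon_obj U) _ (isFppfCover_of_repWith_etale hue hus))
      ν' hX' (fun _ => (yon S).obj N) (fun _ => (yon S).map ν) (fun _ => q) (fun _ => IsAlgSpace.yon_obj N)
      (fun _ => sqν)).2 (fun _ => hUN.integral)
  -- the map from the source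
  have hae : RepWith @Etale a := repWith_of_isPullback sq.flip hue
  have has : RepWith @Surjective a := repWith_of_isPullback sq.flip hus
  have : Epi a := epi_of_etale_surjective hae has
  have : EffectiveEpi a := by
    have := IsRegularEpiCategory.regularEpiOfEpi a
    infer_instance
  let f' : P ⟶ QuotSh.quot Scheme.fppfPrecoverage s' t' := EffectiveEpi.desc a (fU ≫ q)
    (fun g₁ g₂ e => AlgSpDec.EffDescentRep.desc_agree (fun T c d hcd => by
      obtain ⟨x, hx⟩ := (yon S).map_surjective (c ≫ fU)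
      obtain ⟨y, hy⟩ := (yon S).map_surjective (d ≫ fU)
      have hcu : (c ≫ π) ≫ u = (d ≫ π) ≫ u := by
        rw [Category.assoc, Category.assoc, ← sq.w, ← Category.assoc, hcd, Category.assoc]
      obtain ⟨τ, hτ₁, hτ₂⟩ := exists_pair_lift sqR (x ≫ ν) (y ≫ ν) (by
        rw [Functor.map_comp, Functor.map_comp, hx, hy, Category.assoc c, Category.assoc d, hUN.fac, hcu])
      rw [← Category.assoc, ← Category.assoc d, ← hx, ← hy]
      refine hrel x τ hτ₁.symm y ?_
      rw [hy]
      simp only [hx]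
      refine (hH.map c d _ _ ?_ hcd).symm
      rw [← hy, ← Functor.map_comp, ← Functor.map_comp, hτ₂]) g₁ g₂ e)
  have hf' : a ≫ f' = fU ≫ q := EffectiveEpi.fac a _ _
  refine ⟨_, ν', f', q, hX', hint, ?_, sqν, hf'.symm⟩
  rw [← cancel_epi a, ← Category.assoc, hf', Category.assoc, hν', ← Category.assoc, hUN.fac, sq.w]

end Groth.Agent.NormSp
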