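import Groth.Agent.NormSp.Local

/-!
# Comparison of the pullbacks of a stable normalization along two maps
-/

set_option autoImplicit false
set_option backward.isDefEq.respectTransparency false
set_option backward.isDefEq.respectTransparency.types false

universe u

open CategoryTheory CategoryTheory.Limits AlgebraicGeometry Opposite AlgSp Groth.Agent.AlgSpLib

namespace Groth.Agent.NormSp

variable {S : Scheme.{u}} {P X PU U N E : Sp S} {f : P ⟶ X} {a : PU ⟶ P} {π : PU ⟶ U} {u : U ⟶ X}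
  {ν : N ⟶ U} {fU : PU ⟶ N} {k k' k'' : E ⟶ U}

/-- The action of a comparison map on points. -/
noncomputable def act (H : pullback ν k ⟶ pullback ν k') {Z : Sp S} (x : Z ⟶ N) (τ : Z ⟶ E)
    (hx : x ≫ ν = τ ≫ k) : Z ⟶ N :=
  pullback.lift x τ hx ≫ H ≫ pullback.fst ν k'

variable (a fU) in
/-- A comparison map of two pullbacks over the same base, compatible with the maps from the source. -/
structure Link (k k' : E ⟶ U) (H : pullback ν k ⟶ pullback ν k') : Prop where
  snd : H ≫ pullback.snd ν k' = pullback.snd ν k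
  map : ∀ {Z : Sp S} (x y : Z ⟶ PU) (τ : Z ⟶ E) (hx : (x ≫ fU) ≫ ν = τ ≫ k), (y ≫ fU) ≫ ν = τ ≫ k' →
    x ≫ a = y ≫ a → act H (x ≫ fU) τ hx = y ≫ fU

theorem act_ν {H : pullback ν k ⟶ pullback ν k'} (hH : Link a fU k k' H) {Z : Sp S} (x : Z ⟶ N) (τ : Z ⟶ E)
    (hx : x ≫ ν = τ ≫ k) : act H x τ hx ≫ ν = τ ≫ k' := by
  simp only [act, Category.assoc, pullback.condition]
  rw [← Category.assoc H, hH.snd, pullback.lift_snd_assoc]

theorem lift_comp {H : pullback ν k ⟶ pullback ν k'} (hH : Link a fU k k' H) {Z : Sp S} (x : Z ⟶ N) (τ : Z ⟶ E)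
    (hx : x ≫ ν = τ ≫ k) :
    pullback.lift x τ hx ≫ H = pullback.lift (act H x τ hx) τ (act_ν hH x τ hx) := by
  apply pullback.hom_ext
  · rw [pullback.lift_fst, Category.assoc]; rfl
  · rw [pullback.lift_snd, Category.assoc, hH.snd, pullback.lift_snd]

theorem act_comp {H : pullback ν k ⟶ pullback ν k'} {H' : pullback ν k' ⟶ pullback ν k''} (hH : Link a fU k k' H)
    {Z : Sp S} (x : Z ⟶ N) (τ : Z ⟶ E) (hx : x ≫ ν = τ ≫ k) :
    act (H ≫ H') x τ hx = act H' (act H x τ hx) τ (act_ν hH x τ hx) := by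
  show pullback.lift x τ hx ≫ (H ≫ H') ≫ pullback.fst ν k'' = _
  rw [Category.assoc, ← Category.assoc (pullback.lift x τ hx), lift_comp hH x τ hx]
  rfl

theorem act_id {Z : Sp S} (x : Z ⟶ N) (τ : Z ⟶ E) (hx : x ≫ ν = τ ≫ k) :
    act (𝟙 (pullback ν k)) x τ hx = x := by
  simp [act]

theorem Link.comp {H : pullback ν k ⟶ pullback ν k'} {H' : pullback ν k' ⟶ pullback ν k''}
    (hH : Link a fU k k' H) (hH' : Link a fU k' k'' H') (hfac : fU ≫ ν = π) (sq : IsPullback a π f u)
    (hk : k ≫ u = k' ≫ u) : Link a fU k k'' (H ≫ H') := by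
  refine ⟨by rw [Category.assoc, hH'.snd, hH.snd], fun {Z} x z τ hx hz hxz => ?_⟩
  let y : Z ⟶ PU := sq.lift (x ≫ a) (τ ≫ k') (by
    rw [Category.assoc, sq.w, Category.assoc, ← hk, ← Category.assoc τ, ← hx, Category.assoc, Category.assoc,
      reassoc_of% hfac])
  have hy : (y ≫ fU) ≫ ν = τ ≫ k' := by rw [Category.assoc, hfac, sq.lift_snd]
  rw [act_comp hH]
  simp only [hH.map x y τ hx hy (sq.lift_fst _ _ _).symm]
  exact hH'.map y z τ hy hz ((sq.lift_fst _ _ _).trans hxz)

theorem Link.id (hfac : fU ≫ ν = π) (sq : IsPullback a π f u) : Link a fU k k (𝟙 (pullback ν k)) := by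
  refine ⟨Category.id_comp _, fun x y τ hx hy hxy => ?_⟩
  rw [act_id]
  have : x = y := sq.hom_ext hxy (by rw [← hfac, ← Category.assoc, hx, ← Category.assoc, hy])
  rw [this]

variable {E' : Sp S}

/-- Base change of a comparison map. -/
theorem Link.baseChange {H : pullback ν k ⟶ pullback ν k'} (hH : Link a fU k k' H) (m : E' ⟶ E) {j j' : E' ⟶ U}
    (hj : j = m ≫ k) (hj' : j' = m ≫ k') :
    ∃ H' : pullback ν j ⟶ pullback ν j', Link a fU j j' H' ∧
      ∀ {Z : Sp S} (x : Z ⟶ N) (τ : Z ⟶ E') (hx : x ≫ ν = τ ≫ j) (hx' : x ≫ ν = (τ ≫ m) ≫ k),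
        act H' x τ hx = act H x (τ ≫ m) hx' := by
  let q : pullback ν j ⟶ pullback ν k :=
    pullback.lift (pullback.fst ν j) (pullback.snd ν j ≫ m) (by rw [pullback.condition, hj, Category.assoc])
  let H' : pullback ν j ⟶ pullback ν j' := pullback.lift (q ≫ H ≫ pullback.fst ν k') (pullback.snd ν j) (by
    rw [Category.assoc, Category.assoc, pullback.condition, ← Category.assoc H, hH.snd, pullback.lift_snd_assoc,
      hj', Category.assoc])
  have key : ∀ {Z : Sp S} (x : Z ⟶ N) (τ : Z ⟶ E') (hx : x ≫ ν = τ ≫ j) (hx' : x ≫ ν = (τ ≫ m) ≫ k),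
      act H' x τ hx = act H x (τ ≫ m) hx' := by
    intro Z x τ hx hx'
    simp only [act, H', Category.assoc, pullback.lift_fst]
    rw [← Category.assoc (pullback.lift x τ hx)]
    congr 1
    apply pullback.hom_ext <;> simp [q]
  refine ⟨H', ⟨pullback.lift_snd _ _ _, fun {Z} x y τ hx hy hxy => ?_⟩, key⟩
  rw [key _ _ hx (by rw [hx, hj, Category.assoc])]
  exact hH.map x y _ _ (by rw [hy, hj', Category.assoc]) hxy

/-- The pullback of a stable normalization along a smooth map is a normalization. -/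
theorem norm_pull (hUN : IsUN π ν fU) (sq : IsPullback a π f u) (hE : IsAlgSpace E) {e : E ⟶ X}
    (he : k ≫ u = e) (hk : RepWith @Smooth k) :
    IsRelNormalization (pullback.snd f e) (pullback.snd ν k)
      (pullback.lift (sq.lift (pullback.fst f e) (pullback.snd f e ≫ k)
        (by rw [Category.assoc, he, pullback.condition]) ≫ fU) (pullback.snd f e)
        (by rw [Category.assoc, hUN.fac, sq.lift_snd])) := by
  refine (hUN.baseChange k hk (a := sq.lift (pullback.fst f e) (pullback.snd f e ≫ k)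
    (by rw [Category.assoc, he, pullback.condition])) ?_ (IsPullback.of_hasPullback ν k)
    (pullback.lift_snd _ _ _) (pullback.lift_fst _ _ _)).isRelNormalization hE
  exact IsPullback.of_right (by rw [sq.lift_fst, he]; exact IsPullback.of_hasPullback f e) (sq.lift_snd _ _ _) sq

/-- Comparison maps are unique. -/
theorem Link.unique (hUN : IsUN π ν fU) (sq : IsPullback a π f u) (hU : IsAlgSpace U) (hE : IsAlgSpace E)
    (hk : RepWith @Smooth k) (hkk : k ≫ u = k' ≫ u) {H H' : pullback ν k ⟶ pullback ν k'}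
    (hH : Link a fU k k' H) (hH' : Link a fU k k' H') : H = H' := by
  have hn := norm_pull hUN sq hE (e := k ≫ u) rfl hk
  have hνr := AlgSpDec.isIntegralMor_iff_repWith.1 hUN.integral
  have hN : IsAlgSpace N := isAlgSpace_of_representable ν hνr.rep hU
  let x : pullback f (k ≫ u) ⟶ PU := sq.lift (pullback.fst f (k ≫ u)) (pullback.snd f (k ≫ u) ≫ k)
    (by rw [Category.assoc, pullback.condition])
  let y : pullback f (k ≫ u) ⟶ PU := sq.lift (pullback.fst f (k ≫ u)) (pullback.snd f (k ≫ u) ≫ k')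
    (by rw [Category.assoc, ← hkk, pullback.condition])
  have hx : (x ≫ fU) ≫ ν = pullback.snd f (k ≫ u) ≫ k := by rw [Category.assoc, hUN.fac, sq.lift_snd]
  have hy : (y ≫ fU) ≫ ν = pullback.snd f (k ≫ u) ≫ k' := by rw [Category.assoc, hUN.fac, sq.lift_snd]
  have hxy : x ≫ a = y ≫ a := (sq.lift_fst _ _ _).trans (sq.lift_fst _ _ _).symm
  obtain ⟨l, -, hl⟩ := hn.2.2 (isAlgSpace_pullback hN hE hU ν k') (pullback.snd ν k')
    (pullback.lift (y ≫ fU) (pullback.snd f (k ≫ u)) hy)
    (AlgSpDec.isIntegralMor_iff_repWith.2 (repWith_snd k' hνr)) (pullback.lift_snd _ _ _)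
  have h₁ : ∀ {G : pullback ν k ⟶ pullback ν k'}, Link a fU k k' G → G = l := fun {G} hG => hl G ⟨by
    rw [lift_comp hG]
    apply pullback.hom_ext
    · rw [pullback.lift_fst, pullback.lift_fst]
      exact hG.map x y _ hx hy hxy
    · rw [pullback.lift_snd, pullback.lift_snd], hG.snd⟩
  exact (h₁ hH).trans (h₁ hH').symm

/-- Comparison maps exist. -/
theorem exists_link (hUN : IsUN π ν fU) (sq : IsPullback a π f u) (hE : IsAlgSpace E)
    (hk : RepWith @Smooth k) (hk' : RepWith @Smooth k') (hkk : k ≫ u = k' ≫ u) :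
    ∃ H : pullback ν k ⟶ pullback ν k', Link a fU k k' H ∧ IsIso H := by
  obtain ⟨e, he₁, he₂⟩ := exists_iso_of_norm hE (norm_pull hUN sq hE (e := k ≫ u) rfl hk)
    (norm_pull hUN sq hE (e := k ≫ u) hkk.symm hk')
  refine ⟨e.hom, ⟨he₂, fun {Z} x y τ hx hy hxy => ?_⟩, inferInstance⟩
  let z : Z ⟶ pullback f (k ≫ u) := pullback.lift (x ≫ a) τ (by
    rw [Category.assoc, sq.w, ← hUN.fac, ← Category.assoc, ← Category.assoc, hx, Category.assoc])
  have hz₁ : z ≫ pullback.fst f (k ≫ u) = x ≫ a := pullback.lift_fst _ _ _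
  have hz₂ : z ≫ pullback.snd f (k ≫ u) = τ := pullback.lift_snd _ _ _
  have hzx : z ≫ sq.lift (pullback.fst f (k ≫ u)) (pullback.snd f (k ≫ u) ≫ k)
      (by rw [Category.assoc, pullback.condition]) = x := by
    apply sq.hom_ext
    · rw [Category.assoc, sq.lift_fst, hz₁]
    · rw [Category.assoc, sq.lift_snd, reassoc_of% hz₂, ← hUN.fac, ← Category.assoc, hx]
  have hzy : z ≫ sq.lift (pullback.fst f (k ≫ u)) (pullback.snd f (k ≫ u) ≫ k')
      (by rw [Category.assoc, ← hkk, pullback.condition]) = y := by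
    apply sq.hom_ext
    · rw [Category.assoc, sq.lift_fst, hz₁, hxy]
    · rw [Category.assoc, sq.lift_snd, reassoc_of% hz₂, ← hUN.fac, ← Category.assoc, hy]
  have h := congrArg (fun G => z ≫ G ≫ pullback.fst ν k') he₁
  simp only [Category.assoc, pullback.lift_fst] at h
  rw [reassoc_of% hzy] at h
  rw [← h, act, ← Category.assoc z]
  congr 1
  apply pullback.hom_ext
  · rw [pullback.lift_fst, Category.assoc, pullback.lift_fst, reassoc_of% hzx]
  · rw [pullback.lift_snd, Category.assoc, pullback.lift_snd, hz₂]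

end Groth.Agent.NormSp
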