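import Mathlib.AlgebraicGeometry.Morphisms.Finite
import Mathlib.AlgebraicGeometry.Morphisms.FiniteType
import Mathlib.RingTheory.RingHom.FiniteType

/-!
# An open immersion into an affine scheme descends to a finitely generated subalgebra
-/

set_option autoImplicit false
set_option backward.isDefEq.respectTransparency false
set_option backward.isDefEq.respectTransparency.types false

universe u

open CategoryTheory CategoryTheory.Limits AlgebraicGeometry

namespace Groth.Agent.NormSp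

theorem isIso_of_bijective_appTop {X Y : Scheme.{u}} [IsAffine X] [IsAffine Y] (q : X ⟶ Y)
    (h : Function.Bijective q.appTop.hom) : IsIso q := by
  have : IsIso q.appTop := (ConcreteCategory.isIso_iff_bijective _).2 h
  have h' := (HasAffineProperty.iff_of_isAffine (P := MorphismProperty.isomorphisms Scheme.{u}) (f := q)).2
    ⟨‹IsAffine X›, this⟩
  exact h'

variable {N N' U : Scheme.{u}}

theorem exists_pow_mul_eq_zero [IsAffine N] (f : Γ(N, ⊤)) (W : N.Opens) (hW : W = N.basicOpen f) (c : Γ(N, ⊤))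
    (h : N.presheaf.map (homOfLE (le_top : W ≤ ⊤)).op c = 0) : ∃ m : ℕ, f ^ m * c = 0 := by
  subst hW
  have hloc : IsLocalization.Away f Γ(N, N.basicOpen f) := (isAffineOpen_top N).isLocalization_basicOpen f
  obtain ⟨⟨_, m, rfl⟩, hm⟩ := (IsLocalization.map_eq_zero_iff (Submonoid.powers f) Γ(N, N.basicOpen f) c).1 h
  exact ⟨m, hm⟩

theorem injective_app_basicOpen [IsAffine N] [IsAffine N'] (q : N ⟶ N') (hinj : Function.Injective q.appTop.hom)
    (f : Γ(N', ⊤)) : Function.Injective (q.app (N'.basicOpen f)).hom := by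
  have hloc : IsLocalization.Away f Γ(N', N'.basicOpen f) := (isAffineOpen_top N').isLocalization_basicOpen f
  refine (injective_iff_map_eq_zero _).2 fun y hy => ?_
  obtain ⟨n, c, hc⟩ := IsLocalization.Away.surj f y
  have hu : IsUnit (algebraMap Γ(N', ⊤) Γ(N', N'.basicOpen f) f) := IsLocalization.Away.algebraMap_isUnit f
  have h₁ : (q.app (N'.basicOpen f)).hom (algebraMap Γ(N', ⊤) Γ(N', N'.basicOpen f) c) = 0 := by
    rw [← hc, map_mul, hy, zero_mul]
  have h₂ : N.presheaf.map (homOfLE (le_top : q ⁻¹ᵁ N'.basicOpen f ≤ ⊤)).op (q.appTop c) = 0 :=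
    (ConcreteCategory.congr_hom (q.naturality (homOfLE (le_top : N'.basicOpen f ≤ ⊤)).op) c).symm.trans h₁
  obtain ⟨m, hm⟩ := exists_pow_mul_eq_zero (q.appTop f) _ (Scheme.preimage_basicOpen_top q f) (q.appTop c) h₂
  have h₃ : f ^ m * c = 0 := hinj (by rw [map_mul, map_pow, map_zero]; exact hm)
  have h₄ : algebraMap Γ(N', ⊤) Γ(N', N'.basicOpen f) f ^ m * (y * algebraMap Γ(N', ⊤) Γ(N', N'.basicOpen f) f ^ n) = 0 := by
    rw [hc, ← map_pow, ← map_mul, h₃, map_zero]
  exact (hu.pow n).mul_left_eq_zero.1 ((hu.pow m).mul_right_eq_zero.1 h₄)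

theorem exists_numerators [IsAffine N] [IsAffine U] (ν : N ⟶ U) (f : Γ(N, ⊤))
    (hft : (ν.appLE ⊤ (N.basicOpen f) le_top).hom.FiniteType) :
    ∃ a : Finset Γ(N, ⊤), ∀ (W : N.Opens), W = N.basicOpen f → ∀ T : Subring Γ(N, W),
      (∀ z, ν.appLE ⊤ W le_top z ∈ T) → (∀ c ∈ a, N.presheaf.map (homOfLE le_top).op c ∈ T) →
      (∃ v ∈ T, N.presheaf.map (homOfLE le_top).op f * v = 1) → T = ⊤ := by
  classical
  have hloc : IsLocalization.Away f Γ(N, N.basicOpen f) := (isAffineOpen_top N).isLocalization_basicOpen f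
  algebraize [(ν.appLE ⊤ (N.basicOpen f) le_top).hom]
  obtain ⟨G, hG⟩ := Algebra.FiniteType.out (R := Γ(U, ⊤)) (A := Γ(N, N.basicOpen f))
  choose n c hc using fun y : Γ(N, N.basicOpen f) => IsLocalization.Away.surj f y
  refine ⟨G.image c, ?_⟩
  rintro W rfl T hν ha ⟨v, hv, hfv⟩
  refine eq_top_iff.2 fun y _ => ?_
  have hy : y ∈ Algebra.adjoin Γ(U, ⊤) (G : Set Γ(N, N.basicOpen f)) := by rw [hG]; trivial
  induction hy using Algebra.adjoin_induction with
  | mem z hz =>
    have : z = N.presheaf.map (homOfLE le_top).op (c z) * v ^ n z := by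
      have h := hc z
      change z * (N.presheaf.map (homOfLE le_top).op f) ^ n z = N.presheaf.map (homOfLE le_top).op (c z) at h
      rw [← h, mul_assoc, ← mul_pow, hfv, one_pow, mul_one]
    rw [this]
    exact T.mul_mem (ha _ (Finset.mem_image_of_mem c hz)) (T.pow_mem hv _)
  | algebraMap r => exact hν r
  | add _ _ _ _ h₁ h₂ => exact T.add_mem (h₁ trivial) (h₂ trivial)
  | mul _ _ _ _ h₁ h₂ => exact T.mul_mem (h₁ trivial) (h₂ trivial)

theorem isIso_morphismRestrict [IsAffine N] [IsAffine N'] (q : N ⟶ N') (f : Γ(N', ⊤))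
    (h : Function.Bijective (q.app (N'.basicOpen f)).hom) : IsIso (q ∣_ N'.basicOpen f) := by
  have : IsAffine (N'.basicOpen f).toScheme := (isAffineOpen_top N').basicOpen f
  have : IsAffine (q ⁻¹ᵁ N'.basicOpen f).toScheme := by
    rw [Scheme.preimage_basicOpen_top]
    exact (isAffineOpen_top N).basicOpen _
  have key : ∀ V : N'.Opens, V = N'.basicOpen f → Function.Bijective (q.app V).hom := by
    rintro V rfl
    exact h
  refine isIso_of_bijective_appTop _ ?_
  rw [morphismRestrict_appTop, CommRingCat.hom_comp, RingHom.coe_comp]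
  exact ((ConcreteCategory.isIso_iff_bijective _).1 inferInstance).comp (key _ (Scheme.Opens.ι_image_top _))

/-- Finitely many functions whose span as an algebra already sees the open immersion. -/
theorem exists_gens {X : Scheme.{u}} [IsAffine N] [IsAffine U] (i : X ⟶ N) [IsOpenImmersion i] [CompactSpace X]
    (ν : N ⟶ U) [LocallyOfFiniteType (i ≫ ν)] :
    ∃ a : Finset Γ(N, ⊤), ∀ {N' : Scheme.{u}} [IsAffine N'] (q : N ⟶ N') (b : N' ⟶ U),
      q ≫ b = ν → Function.Injective q.appTop.hom → (∀ x ∈ a, x ∈ Set.range q.appTop.hom) →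
        IsOpenImmersion (i ≫ q) := by
  classical
  have hc : IsCompact (i.opensRange : Set N) := isCompact_range i.continuous
  have hb : ∀ x : X, ∃ f : Γ(N, ⊤), N.basicOpen f ≤ i.opensRange ∧ i x ∈ N.basicOpen f := fun x =>
    (isAffineOpen_top N).exists_basicOpen_le (V := i.opensRange) ⟨i x, x, rfl⟩ trivial
  choose f hf hfx using hb
  obtain ⟨t, ht⟩ := hc.elim_finite_subcover (fun x => (N.basicOpen (f x) : Set N)) (fun x => (N.basicOpen (f x)).2)
    (by rintro _ ⟨x, rfl⟩; exact Set.mem_iUnion.2 ⟨x, hfx x⟩)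
  have hgen := fun x => exists_numerators ν (f x) (by
    let D := N.basicOpen (f x)
    have : IsAffine D.toScheme := (isAffineOpen_top N).basicOpen (f x)
    have hsub : Set.range D.ι ⊆ Set.range i := by
      rw [Scheme.Opens.range_ι]
      exact hf x
    have : LocallyOfFiniteType (D.ι ≫ ν) := by
      rw [← IsOpenImmersion.lift_fac i D.ι hsub, Category.assoc]
      infer_instance
    have h₁ := (D.ι ≫ ν).finiteType_appLE (isAffineOpen_top U) (isAffineOpen_top D.toScheme) le_top
    have h₂ : (D.ι ≫ ν).appLE ⊤ ⊤ le_top = ν.appLE ⊤ D le_top ≫ D.topIso.inv := by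
      rw [Scheme.Hom.comp_appLE, Scheme.Opens.ι_appLE, Scheme.Hom.app_eq_appLE]
      simp [Scheme.Opens.topIso_inv, Scheme.Hom.appLE_map]
    rw [h₂, CommRingCat.hom_comp, RingHom.finiteType_respectsIso.cancel_right_isIso] at h₁
    exact h₁)
  choose a ha using hgen
  refine ⟨t.biUnion fun x => insert (f x) (a x), fun {N'} _ q b hqb hinj hmem => ?_⟩
  subst hqb
  have hmemf : ∀ x ∈ t, f x ∈ Set.range q.appTop.hom := fun x hx =>
    hmem _ (Finset.mem_biUnion.2 ⟨x, hx, Finset.mem_insert_self _ _⟩)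
  choose f' hf' using fun x : t => hmemf x.1 x.2
  let D' : t → N'.Opens := fun x => N'.basicOpen (f' x)
  have hpre : ∀ x : t, q ⁻¹ᵁ D' x = N.basicOpen (f x) := fun x => by
    rw [Scheme.preimage_basicOpen_top]
    exact congrArg N.basicOpen (hf' x)
  have hiso : ∀ x : t, IsIso (q ∣_ D' x) := fun x => by
    refine isIso_morphismRestrict q (f' x) ⟨injective_app_basicOpen q hinj (f' x), ?_⟩
    rw [← RingHom.range_eq_top]
    refine ha x _ (hpre x) _ (fun z => ?_) (fun c hc => ?_) ?_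
    · refine ⟨b.appLE ⊤ (D' x) le_top z, ?_⟩
      rw [← Scheme.Hom.appLE_comp_appLE q b ⊤ (D' x) _ le_top le_rfl, Scheme.Hom.app_eq_appLE]
      rfl
    · obtain ⟨c', rfl⟩ := hmem c (Finset.mem_biUnion.2 ⟨x, x.2, Finset.mem_insert_of_mem hc⟩)
      exact ⟨_, ConcreteCategory.congr_hom (q.naturality (homOfLE (le_top : D' x ≤ ⊤)).op) c'⟩
    · have hloc : IsLocalization.Away (f' x) Γ(N', D' x) := (isAffineOpen_top N').isLocalization_basicOpen (f' x)
      obtain ⟨v, hv⟩ := (IsLocalization.Away.algebraMap_isUnit (S := Γ(N', D' x)) (f' x)).exists_right_inv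
      refine ⟨_, ⟨v, rfl⟩, ?_⟩
      rw [← hf' x, show N.presheaf.map (homOfLE le_top).op (q.appTop.hom (f' x)) =
        (q.app (D' x)).hom (algebraMap Γ(N', ⊤) Γ(N', D' x) (f' x)) from
          (ConcreteCategory.congr_hom (q.naturality (homOfLE (le_top : D' x ≤ ⊤)).op) (f' x)).symm,
        ← map_mul, hv, map_one]
  let O : N'.Opens := ⨆ x, D' x
  have hO : q ⁻¹ᵁ O = i.opensRange := by
    refine le_antisymm ?_ ?_
    · rw [Scheme.Hom.preimage_iSup]
      exact iSup_le fun x => (hpre x).le.trans (hf x)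
    · intro y hy
      obtain ⟨x, hx, hyx⟩ := Set.mem_iUnion₂.1 (ht hy)
      exact TopologicalSpace.Opens.mem_iSup.2 ⟨⟨x, hx⟩, (hpre ⟨x, hx⟩).ge hyx⟩
  have hiso' : IsIso (q ∣_ O) := by
    refine IsZariskiLocalAtTarget.of_iSup_eq_top (P := MorphismProperty.isomorphisms Scheme.{u})
      (fun x => O.ι ⁻¹ᵁ D' x) ?_ fun x => ?_
    · rw [← Scheme.Hom.preimage_iSup]
      exact O.ι_preimage_self
    · rw [(MorphismProperty.isomorphisms Scheme.{u}).arrow_mk_iso_iff (morphismRestrictRestrict q O _)]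
      have : O.ι ''ᵁ O.ι ⁻¹ᵁ D' x = D' x := by
        rw [Scheme.Hom.image_preimage_eq_opensRange_inf, Scheme.Opens.opensRange_ι]
        exact inf_eq_right.2 (le_iSup D' x)
      rw [this]
      exact hiso x
  have e : i ≫ q = (i.isoOpensRange.hom ≫ (N.isoOfEq hO.symm).hom) ≫ q ∣_ O ≫ O.ι := by
    rw [morphismRestrict_ι, Category.assoc, ← Category.assoc (N.isoOfEq _).hom, Scheme.isoOfEq_hom_ι,
      Scheme.Hom.isoOpensRange_hom_ι_assoc]
  rw [e]
  infer_instance

end Groth.Agent.NormSp
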