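import Groth.Agent.NormSp.SplitOne
import Groth.Agent.NormSp.Clopen
import Groth.Agent.NormSp.Exists
import Groth.Agent.AlgSpLib.Descent2
import Groth.Agent.AlgSpDec.FppfDescent

/-!
# The normalization over the quasi-finite locus
-/

set_option autoImplicit false
set_option backward.isDefEq.respectTransparency false
set_option backward.isDefEq.respectTransparency.types false

universe u

open CategoryTheory CategoryTheory.Limits AlgebraicGeometry Opposite AlgSp Groth.Agent.AlgSpLib Groth.Agent.AlgSpPts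
  Groth.Agent.AlgSpDec Groth.Agent.AlgSpDec.SplitQf

namespace Groth.Agent.NormSp

variable {S : Scheme.{u}}

/-- Near each quasi-finite point the map to the normalization is an isomorphism. -/
theorem exists_chart_norm {X Y Y' : Space S} (f : X ⟶ Y) (ν : Y' ⟶ Y) (f' : X ⟶ Y')
    (hl : LocP @LocallyOfFiniteType f.hom) (hqc : IsQuasiCompactMor f.hom) (hs : IsSeparatedMor f.hom)
    (hn : IsRelNormalization f.hom ν.hom f'.hom) (x : Points X.obj) (hx : QfAt f.hom x) :
    ∃ (V : Over S) (c : (yon S).obj V ⟶ Y'.obj) (l : (yon S).obj V ⟶ X.obj),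
      RepWith @Etale c ∧ IsPullback l (𝟙 _) f'.hom c ∧ x ∈ Set.range (Points.ofPt l) ∧
      ∀ t, QfAt f.hom (Points.ofPt l t) := by
  obtain ⟨U, V, a, k, jV, v, hU, ha, ho, hc, hk, hjk, hv⟩ := exists_split_one f hl hs x hx
  have := hU
  have := hk
  have hqs : IsQuasiSeparatedMor f.hom := repWith_mono
    (fun _ _ e (_ : IsClosedImmersion e) => inferInstanceAs (QuasiCompact e)) _ hs
  have hνr := AlgSpDec.isIntegralMor_iff_repWith.1 hn.2.1
  let N := hνr.rep.pullback a
  let n : N ⟶ U := hνr.rep.snd a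
  let bN : (yon S).obj N ⟶ Y'.obj := hνr.rep.fst a
  have sq₂ : IsPullback bN ((yon S).map n) ν.hom a := hνr.rep.isPullback a
  have sq₁ : IsPullback (pullback.fst f.hom a) (pullback.snd f.hom a) f.hom a := IsPullback.of_hasPullback _ _
  let fN : pullback f.hom a ⟶ (yon S).obj N := sq₂.lift (pullback.fst f.hom a ≫ f'.hom) (pullback.snd f.hom a)
    (by rw [Category.assoc, hn.1, pullback.condition])
  have hfN₁ : fN ≫ bN = pullback.fst f.hom a ≫ f'.hom := sq₂.lift_fst _ _ _
  have hfN₂ : fN ≫ (yon S).map n = pullback.snd f.hom a := sq₂.lift_snd _ _ _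
  have hPU := isAlgSpace_of_isPullback sq₁ X.property (IsAlgSpace.yon_obj U) Y.property
  have hN : IsRelNormalization (pullback.snd f.hom a) ((yon S).map n) fN :=
    ((isUN_of_norm X.property Y.property hqc hqs hn).baseChange a (smooth_of_etale ha) sq₁ sq₂ hfN₂
      hfN₁).isRelNormalization (IsAlgSpace.yon_obj U)
  obtain ⟨hVo, hVsq⟩ := open_clopen_norm hPU (AlgSpPts.isQuasiCompactMor_of_isPullback sq₁ hqc)
    (AlgSpPts.isQuasiSeparatedMor_of_isPullback sq₁ hqs) hN ho hc hjk
  have sqf : IsPullback (pullback.fst f.hom a) fN f'.hom bN := by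
    refine IsPullback.of_bot ?_ hfN₁.symm sq₂
    rw [hfN₂, hn.1]
    exact sq₁
  refine ⟨V, (jV ≫ fN) ≫ bN, jV ≫ pullback.fst f.hom a,
    repWith_comp (repWith_mono (P := @IsOpenImmersion) (Q := @Etale)
      (fun _ _ e (_ : IsOpenImmersion e) => inferInstanceAs (Etale e)) _ hVo) (repWith_of_isPullback sq₂.flip ha),
    hVsq.paste_horiz sqf, ⟨v, hv⟩, fun t => ?_⟩
  have hae : RepWith @Etale (pullback.fst f.hom a) := repWith_of_isPullback sq₁.flip ha
  refine ⟨V, U, jV ≫ pullback.fst f.hom a, a, k, t,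
    repWith_comp (repWith_mono (P := @IsOpenImmersion) (Q := @Etale)
      (fun _ _ e (_ : IsOpenImmersion e) => inferInstanceAs (Etale e)) _ ho) hae, ha, ?_, rfl, ?_⟩
  · rw [Category.assoc, pullback.condition, reassoc_of% hjk]
  · exact fibreDimAt_eq_zero_of_lqf k.left t

/-- The normalization is isomorphic to the source over an open with inverse image the quasi-finite locus. -/
theorem exists_open_iso {X Y Y' : Space S} (f : X ⟶ Y) (ν : Y' ⟶ Y) (f' : X ⟶ Y')
    (hl : LocP @LocallyOfFiniteType f.hom) (hqc : IsQuasiCompactMor f.hom) (hs : IsSeparatedMor f.hom)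
    (hn : IsRelNormalization f.hom ν.hom f'.hom) :
    ∃ (U' : Space S) (j : U' ⟶ Y'), RepWith @IsOpenImmersion j.hom ∧
      ∀ (P : Space S) (fst : P ⟶ X) (snd : P ⟶ U'), IsPullback fst.hom snd.hom f'.hom j.hom →
        IsIso snd.hom ∧ Set.range (Points.map fst.hom) = {x | QfAt f.hom x} := by
  obtain ⟨U₀, p₀, -, hs₀⟩ := X.property.atlas
  let I := {t : ↥U₀.left // QfAt f.hom (Points.ofPt p₀ t)}
  choose V c l hce hsq hmem hqf using fun i : I => exists_chart_norm f ν f' hl hqc hs hn _ i.2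
  let O : Set (Points Y'.obj) := ⋃ i, Set.range (Points.ofPt (c i))
  have hO : IsOpen O := isOpen_iUnion fun i => by
    rw [← Set.image_univ]
    exact AlgSpLib.isOpenMap_ofPt (hce i) _ isOpen_univ
  obtain ⟨U'', j, hU'', hj, hjr⟩ := exists_open_subspace Y'.property hO
  refine ⟨⟨U'', hU''⟩, ObjectProperty.homMk j, hj, fun P fst snd sq => ?_⟩
  have hlift : ∀ i, ∃ c', c' ≫ j = c i := fun i => exists_factor_open hj (c i) fun t => by
    rw [hjr]
    exact Set.mem_iUnion.2 ⟨i, t, rfl⟩
  choose c' hc' using hlift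
  have hjm : Mono j := mono_of_openImm hj
  have hc'e : ∀ i, RepWith @Etale (c' i) := fun i =>
    repWith_etale_of_comp (c' i) j (by rw [hc' i]; exact hce i) (repWith_mono (P := @IsOpenImmersion) (Q := @Etale)
      (fun _ _ e (_ : IsOpenImmersion e) => inferInstanceAs (Etale e)) _ hj)
  let q : ∀ i, (yon S).obj (V i) ⟶ P.obj := fun i => sq.lift (l i) (c' i) (by
    rw [(hsq i).w, Category.id_comp, ← hc' i]; rfl)
  have hsqi : ∀ i, IsPullback (q i) (𝟙 _) snd.hom (c' i) := fun i => by
    refine IsPullback.of_right ?_ ((sq.lift_snd _ _ _).trans (Category.id_comp _).symm) sq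
    rw [sq.lift_fst]
    show IsPullback (l i) (𝟙 _) f'.hom (c' i ≫ j)
    rw [hc' i]
    exact hsq i
  have hsurj : ∀ y : Points U'', ∃ i, y ∈ Set.range (Points.map (c' i)) := fun y => by
    have hy : Points.map j y ∈ O := hjr ▸ ⟨y, rfl⟩
    obtain ⟨i, t, ht⟩ := Set.mem_iUnion.1 hy
    refine ⟨i, Points.schemeHomeo (V i) t, injective_points_map_of_mono j ?_⟩
    rw [← Points.map_comp, hc' i, map_yon_eq_ofPt, ht]
  have hcov : IsFpqcCover (fun i => (yon S).obj (V i)) c' :=
    isFpqcCover_of_isFppfCover hU'' (fun i => IsAlgSpace.yon_obj _) _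
      ⟨fun i => ⟨locP_of_repWith (repWith_mono (P := @Etale) (Q := @Flat)
          (fun _ _ e (_ : Etale e) => inferInstanceAs (Flat e)) _ (hc'e i)),
        locP_of_repWith (repWith_mono (P := @Etale) (Q := @LocallyOfFinitePresentation)
          (fun _ _ e (_ : Etale e) => inferInstanceAs (LocallyOfFinitePresentation e)) _ (hc'e i))⟩, hsurj⟩
  have hiso : IsIso snd.hom := isIso_of_fpqc P.property hU'' (fun i => IsAlgSpace.yon_obj _)
    (fun i => IsAlgSpace.yon_obj _) hcov hsqi fun i => inferInstance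
  refine ⟨hiso, Set.Subset.antisymm ?_ fun x hx => ?_⟩
  · rintro _ ⟨p, rfl⟩
    obtain ⟨i, y, hy⟩ := hsurj (Points.map snd.hom p)
    obtain ⟨t, rfl⟩ := (Points.schemeHomeo (V i)).surjective y
    have hp : p = Points.map (q i) (Points.schemeHomeo (V i) t) := injective_points_map_of_mono snd.hom (by
      rw [← Points.map_comp, sq.lift_snd, hy])
    rw [hp, ← Points.map_comp, sq.lift_fst, map_yon_eq_ofPt]
    exact hqf i t
  · obtain ⟨t, rfl⟩ := surjective_ofPt hs₀ x
    obtain ⟨v, hv⟩ := hmem ⟨t, hx⟩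
    refine ⟨Points.map (q ⟨t, hx⟩) (Points.schemeHomeo _ v), ?_⟩
    rw [← Points.map_comp, sq.lift_fst, map_yon_eq_ofPt]
    exact hv

end Groth.Agent.NormSp
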