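import Groth.Agent.AlgSpDec.FiniteCrit
import Groth.Agent.AlgSpDec.FieldFibre
import Groth.Agent.AlgSpDec.WhereLocus
import Groth.Agent.AlgSpDec.ClosedImmCrit
import Groth.Agent.AlgSpDec.SplitQf
import Mathlib.AlgebraicGeometry.ZariskisMainTheorem

/-!
# Splitting off a quasi-finite point after an etale base change to an affine scheme
-/

set_option autoImplicit false
set_option backward.isDefEq.respectTransparency false
set_option backward.isDefEq.respectTransparency.types false

universe u

open CategoryTheory CategoryTheory.Limits AlgebraicGeometry AlgSp Groth.Agent.AlgSpLib Groth.Agent.AlgSpPts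
  Groth.Agent.AlgSpDec Groth.Agent.AlgSpDec.SplitQf

namespace Groth.Agent.NormSp

variable {S : Scheme.{u}}

/-- After an affine etale base change a quasi-finite point lies on an open and closed finite piece. -/
theorem exists_split_one {X Y : Space S} (f : X ⟶ Y) (hl : LocP @LocallyOfFiniteType f.hom)
    (hs : IsSeparatedMor f.hom) (x : Points X.obj) (hqf : QfAt f.hom x) :
    ∃ (U V : Over S) (a : (yon S).obj U ⟶ Y.obj) (k : V ⟶ U) (jV : (yon S).obj V ⟶ pullback f.hom a)
      (v : ↥V.left), IsAffine U.left ∧ RepWith @Etale a ∧ RepWith @IsOpenImmersion jV ∧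
        RepWith @IsClosedImmersion jV ∧ IsFinite k.left ∧ jV ≫ pullback.snd f.hom a = (yon S).map k ∧
        Points.ofPt (jV ≫ pullback.fst f.hom a) v = x := by
  obtain ⟨W, b, w, hW, hb, hw⟩ := exists_affine_chart_at Y.property (Points.map f.hom x)
  have := hW
  -- the quasi-finite locus over the chart is a separated scheme
  have sq₁ := IsPullback.of_hasPullback f.hom b
  have hPW := isAlgSpace_of_isPullback sq₁ X.property (IsAlgSpace.yon_obj W) Y.property
  have hlq := locP_of_isPullback sq₁ X.property Y.property (IsAlgSpace.yon_obj W) hl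
  obtain ⟨Q₀, j, hQ₀, hj, hjr⟩ :=
    exists_open_subspace hPW (PointLocus.isOpen_at PointLocus.ptProp_lqf hlq)
  have hjl : LocP @LocallyOfFiniteType j := locP_of_repWith (repWith_mono (P := @IsOpenImmersion)
    (Q := @LocallyOfFiniteType) (fun _ _ e (_ : IsOpenImmersion e) => inferInstanceAs (LocallyOfFiniteType e)) _ hj)
  have hlc : LocP @LocallyOfFiniteType (j ≫ pullback.snd f.hom b) :=
    locP_comp hQ₀ hPW (IsAlgSpace.yon_obj W) hjl hlq
  have hjmono : Mono j := mono_of_repWith (repWith_mono (P := @IsOpenImmersion)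
    (Q := MorphismProperty.monomorphisms Scheme.{u}) (fun _ _ e (_ : IsOpenImmersion e) => inferInstanceAs (Mono e)) _ hj)
  have hjs : IsSeparatedMor (j ≫ pullback.snd f.hom b) :=
    isSeparatedMor_comp (isSeparatedMor_of_mono j) (isSeparatedMor_of_isPullback sq₁ hs)
  have hjq : LocP (@LocallyQuasiFinite ⊓ @LocallyOfFiniteType) (j ≫ pullback.snd f.hom b) := by
    intro A B a c m ha hc hm
    have : LocallyOfFiniteType m.left := hlc a c m ha hc hm
    refine (PointLocus.lqf_iff_forall m.left).2 fun t => ?_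
    refine (PointLocus.at_iff_chart PointLocus.ptProp_lqf hlq
      (repWith_comp ha (repWith_mono (P := @IsOpenImmersion) (Q := @Etale)
        (fun _ _ e (_ : IsOpenImmersion e) => inferInstanceAs (Etale e)) _ hj)) hc
      (by rw [Category.assoc]; exact hm) t).1 ?_
    have ht : Points.ofPt (a ≫ j) t ∈ Set.range (Points.map j) := ⟨Points.ofPt a t, Points.map_ofPt _ _ _⟩
    rw [hjr] at ht
    exact ht
  obtain ⟨Q, ⟨e⟩⟩ := exists_iso_of_lqf_separated hQ₀ (j ≫ pullback.snd f.hom b) hjq hjs
  obtain ⟨q, hq⟩ := (yon S).map_surjective (e.hom ≫ j ≫ pullback.snd f.hom b)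
  let ι₁ : (yon S).obj Q ⟶ pullback f.hom b := e.hom ≫ j
  have hι₁ : RepWith @IsOpenImmersion ι₁ := repWith_comp (repWith_of_isIso _ e.hom) hj
  have hqι : ι₁ ≫ pullback.snd f.hom b = (yon S).map q := by rw [hq, Category.assoc]
  have hql : LocallyOfFiniteType q.left := hlc e.hom (𝟙 _) q (repWith_of_isIso _ e.hom) (repWith_id _ _)
    (by rw [Category.comp_id, hq])
  have : LocallyQuasiFinite q.left := (hjq e.hom (𝟙 _) q (repWith_of_isIso _ e.hom) (repWith_id _ _)
    (by rw [Category.comp_id, hq])).1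
  have hqs : IsSeparated q.left := ⟨(repWith_diagonal_yon_map_iff _ q).1 (show IsSeparatedMor ((yon S).map q) by
    rw [hq]; exact isSeparatedMor_comp (isSeparatedMor_of_mono e.hom) hjs)⟩
  -- a point over the given one
  obtain ⟨z, hz1, hz2⟩ := exists_point_of_isPullback sq₁ (x := x) (y := Points.schemeHomeo W w)
    (by rw [map_yon_eq_ofPt]; exact hw.symm)
  have hz : z ∈ Set.range (Points.map j) := by
    rw [hjr]
    exact (PointLocus.at_baseChange_iff PointLocus.ptProp_lqf sq₁ X.property Y.property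
      (IsAlgSpace.yon_obj W) hl _).2 (by rw [hz1]; exact hqf)
  obtain ⟨z₀, rfl⟩ := hz
  obtain ⟨t₀, ht₀'⟩ := (Points.schemeHomeo Q).surjective (Points.map e.inv z₀)
  have ht₀ : Points.ofPt ι₁ t₀ = Points.map j z₀ := by
    rw [← map_yon_eq_ofPt, ht₀', ← Points.map_comp]
    show Points.map (e.inv ≫ e.hom ≫ j) z₀ = _
    rw [Iso.inv_hom_id_assoc]
  obtain ⟨U₀, g, hg, -, V₀, W₀, v₀, hVW, hVfin, hv₀⟩ :=
    exists_etale_isCompl_of_quasiFiniteAt q.left (x := t₀) rfl (Scheme.Hom.quasiFiniteAt _ _)
  have := hg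
  -- shrink the etale neighbourhood to an affine one
  obtain ⟨U₁, hU₁, hu₁, -⟩ := exists_isAffineOpen_mem_and_subset (U := (⊤ : U₀.Opens))
    (x := pullback.snd q.left g v₀.1) trivial
  let g₁ : U₁.toScheme ⟶ W.left := U₁.ι ≫ g
  let m : pullback q.left g₁ ⟶ pullback q.left g := pullback.map _ _ _ _ (𝟙 _) U₁.ι (𝟙 _) (by simp) (by simp [g₁])
  have sqm : IsPullback m (pullback.snd q.left g₁) (pullback.snd q.left g) U₁.ι := by
    refine IsPullback.of_right ?_ (pullback.lift_snd _ _ _) (IsPullback.of_hasPullback q.left g)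
    rw [show m ≫ pullback.fst q.left g = pullback.fst q.left g₁ from
      (pullback.lift_fst _ _ _).trans (Category.comp_id _)]
    exact IsPullback.of_hasPullback q.left g₁
  let V₁ : (pullback q.left g₁).Opens := m ⁻¹ᵁ V₀
  have := hVfin
  have hV₁fin : IsFinite (V₁.ι ≫ pullback.snd q.left g₁) :=
    MorphismProperty.of_isPullback (P := @IsFinite) ((isPullback_morphismRestrict m V₀).paste_vert sqm) hVfin
  obtain ⟨v₁, hv₁, hv₁'⟩ := Scheme.exists_preimage_of_isPullback sqm v₀.1 ⟨_, hu₁⟩ rfl
  let U : Over S := Over.mk (g₁ ≫ W.hom)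
  let gU : U ⟶ W := CategoryTheory.Over.homMk g₁ rfl
  let a : (yon S).obj U ⟶ Y.obj := (yon S).map gU ≫ b
  have ha : RepWith @Etale a := repWith_comp ((repWith_yon_map_iff _ gU).2 (inferInstanceAs (Etale g₁))) hb
  let QU : Over S := Over.mk (pullback.snd q.left g₁ ≫ U.hom)
  let pQ : QU ⟶ Q := CategoryTheory.Over.homMk (pullback.fst q.left g₁) (by
    show _ = pullback.snd q.left g₁ ≫ g₁ ≫ W.hom
    rw [← Over.w q, pullback.condition_assoc])
  let pU : QU ⟶ U := CategoryTheory.Over.homMk (pullback.snd q.left g₁) rfl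
  have sqQ : IsPullback ((yon S).map pQ) ((yon S).map pU) ((yon S).map q) ((yon S).map gU) := by
    refine IsPullback.map (yon S) (IsPullback.of_map (Over.forget S) (Over.OverMorphism.ext ?_) ?_)
    · exact pullback.condition
    · exact IsPullback.of_hasPullback q.left g₁
  let π : pullback f.hom a ⟶ pullback f.hom b := pullback.lift (pullback.fst f.hom a)
    (pullback.snd f.hom a ≫ (yon S).map gU) (by rw [Category.assoc]; exact pullback.condition)
  have sqπ : IsPullback π (pullback.snd f.hom a) (pullback.snd f.hom b) ((yon S).map gU) := by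
    refine IsPullback.of_right ?_ (pullback.lift_snd _ _ _) sq₁
    rw [pullback.lift_fst]
    exact IsPullback.of_hasPullback f.hom a
  let ι₂ : (yon S).obj QU ⟶ pullback f.hom a := sqπ.lift ((yon S).map pQ ≫ ι₁) ((yon S).map pU) (by
    rw [Category.assoc, hqι]; exact sqQ.w)
  have sqι : IsPullback ((yon S).map pQ) ι₂ ι₁ π := by
    refine IsPullback.of_bot ?_ (sqπ.lift_fst _ _ _).symm sqπ
    rw [sqπ.lift_snd, hqι]
    exact sqQ
  have hι₂ : RepWith @IsOpenImmersion ι₂ := repWith_of_isPullback sqι hι₁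
  let V : Over S := Over.mk (V₁.ι ≫ QU.hom)
  let iV : V ⟶ QU := CategoryTheory.Over.homMk V₁.ι rfl
  let jV : (yon S).obj V ⟶ pullback f.hom a := (yon S).map iV ≫ ι₂
  have hjo : RepWith @IsOpenImmersion jV :=
    repWith_comp ((repWith_yon_map_iff _ iV).2 (inferInstanceAs (IsOpenImmersion V₁.ι))) hι₂
  have hk : jV ≫ pullback.snd f.hom a = (yon S).map (iV ≫ pU) := by
    rw [Category.assoc, sqπ.lift_snd, ← Functor.map_comp]
  refine ⟨U, V, a, iV ≫ pU, jV, (⟨v₁, show m v₁ ∈ V₀ by rw [hv₁]; exact v₀.2⟩ : V₁), hU₁, ha, hjo, ?_, hV₁fin,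
    hk, ?_⟩
  · have hP : IsAlgSpace (pullback f.hom a) :=
      isAlgSpace_of_isPullback (IsPullback.of_hasPullback f.hom a) X.property (IsAlgSpace.yon_obj U) Y.property
    let P : Space S := ⟨pullback f.hom a, hP⟩
    let jV' : (ofScheme S).obj V ⟶ P := ObjectProperty.homMk jV
    have hfin : IsFiniteMor (jV ≫ pullback.snd f.hom a) := by
      rw [hk]
      exact isFiniteMor_iff_repWith.2 ((repWith_yon_map_iff _ _).2 hV₁fin)
    have hcl : IsUnivClosedMor jV :=
      Where.univClosed_of_comp_separated (IsAlgSpace.yon_obj V) hP (IsAlgSpace.yon_obj U)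
        (proper_and_lqf_of_finite (IsAlgSpace.yon_obj U) hfin).1.2.2
        (isSeparatedMor_of_isPullback (IsPullback.of_hasPullback f.hom a) hs)
    exact (closedImmersion_iff_univClosed_mono jV').2 ⟨hcl, locP_of_repWith (repWith_mono (P := @IsOpenImmersion)
      (Q := @LocallyOfFiniteType) (fun _ _ e (_ : IsOpenImmersion e) => inferInstanceAs (LocallyOfFiniteType e)) _ hjo),
      mono_of_repWith (repWith_mono (P := @IsOpenImmersion) (Q := MorphismProperty.monomorphisms Scheme.{u})
        (fun _ _ e (_ : IsOpenImmersion e) => inferInstanceAs (Mono e)) _ hjo)⟩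
  · have hfst : ι₂ ≫ pullback.fst f.hom a = (yon S).map pQ ≫ ι₁ ≫ pullback.fst f.hom b := by
      rw [← pullback.lift_fst (pullback.fst f.hom a) (pullback.snd f.hom a ≫ (yon S).map gU)
        (by rw [Category.assoc]; exact pullback.condition), ← Category.assoc]
      show (ι₂ ≫ π) ≫ pullback.fst f.hom b = _
      rw [sqπ.lift_fst, Category.assoc]
    rw [Category.assoc, hfst, ← Functor.map_comp_assoc, ofPt_comp, ← Points.map_ofPt]
    have : (iV ≫ pQ).left (⟨v₁, show m v₁ ∈ V₀ by rw [hv₁]; exact v₀.2⟩ : V₁) = t₀ := by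
      show pullback.fst q.left g₁ v₁ = t₀
      rw [← show m ≫ pullback.fst q.left g = pullback.fst q.left g₁ from
        (pullback.lift_fst _ _ _).trans (Category.comp_id _)]
      rw [Scheme.Hom.comp_apply, hv₁]
      exact hv₀
    rw [this, ht₀, hz1]

end Groth.Agent.NormSp
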