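import Groth.Agent.NormSp.Descend
import Groth.Agent.AlgSpLib.Descent2
import Mathlib.AlgebraicGeometry.Morphisms.SchemeTheoreticallyDominant

/-!
# Descending a schematically dominated affine scheme over an etale atlas
-/

set_option autoImplicit false
set_option backward.isDefEq.respectTransparency false
set_option backward.isDefEq.respectTransparency.types false

universe u

open CategoryTheory CategoryTheory.Limits AlgebraicGeometry Opposite AlgSp Groth.Agent.AlgSpLib

namespace Groth.Agent.NormSp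

variable {S : Scheme.{u}}

/-- Maps to an affine scheme agree if they agree after a schematically dominant map. -/
theorem ext_dom {A B Z : Over S} (m : A ⟶ B) [IsSchemeTheoreticallyDominant m.left] [QuasiCompact m.left]
    [IsAffine Z.left] {g g' : B ⟶ Z} (h : m ≫ g = m ≫ g') : g = g' := by
  refine Over.OverMorphism.ext (ext_of_isAffine ?_)
  have h' := congrArg (fun l : A ⟶ Z => l.left.appTop) h
  simp only [Over.comp_left, Scheme.Hom.comp_appTop] at h'
  exact CommRingCat.hom_ext (RingHom.ext fun a => m.left.app_injective _ (ConcreteCategory.congr_hom h' a))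

theorem isPullback_over {A B C D : Over S} {p : A ⟶ B} {q : A ⟶ C} {f : B ⟶ D} {g : C ⟶ D}
    (h : IsPullback p.left q.left f.left g.left) : IsPullback p q f g :=
  IsPullback.of_map (Over.forget S) (Over.OverMorphism.ext (by rw [Over.comp_left, Over.comp_left, h.w])) h

theorem isPullback_forget {A B C D : Over S} {p : A ⟶ B} {q : A ⟶ C} {f : B ⟶ D} {g : C ⟶ D}
    (h : IsPullback p q f g) : IsPullback p.left q.left f.left g.left := h.map (Over.forget S)

variable {X X' : Sp S} {U N N' R : Over S} {u : (yon S).obj U ⟶ X} {ν : X' ⟶ X} {q : (yon S).obj N ⟶ X'}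
  {νU : N ⟶ U} {t s : R ⟶ U}

theorem map_yon_ofPt {Y : Sp S} {W : Over S} (b : (yon S).obj W ⟶ Y) (w : ↥W.left) :
    Points.map b (Points.schemeHomeo W w) = Points.ofPt b w := by
  change Points.map b (Points.ofPt (𝟙 _) w) = _
  rw [Points.map_ofPt, Category.id_comp]

/-- A schematically dominated affine scheme over the atlas with glueing data descends to the space. -/
theorem exists_quot (hX : IsAlgSpace X) (hX' : IsAlgSpace X') (hue : RepWith @Etale u) (hus : RepWith @Surjective u)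
    (sqR : IsPullback ((yon S).map t) ((yon S).map s) u u)
    (sq : IsPullback q ((yon S).map νU) ν u) [IsAffine U.left] [IsAffine N'.left] (b : N' ⟶ U) (q₀ : N ⟶ N')
    (hq₀ : q₀ ≫ b = νU) [IsSchemeTheoreticallyDominant q₀.left] [QuasiCompact q₀.left]
    (hglue : ∀ sN : pullback νU t ⟶ N, sN ≫ νU = pullback.snd νU t ≫ s →
      (yon S).map sN ≫ q = (yon S).map (pullback.fst νU t) ≫ q →
      ∃ s' : pullback b t ⟶ N',
        pullback.map νU t b t q₀ (𝟙 _) (𝟙 _) (by simp [hq₀]) (by simp) ≫ s' = sN ≫ q₀) :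
    ∃ (T : Sp S) (π : T ⟶ X) (h : X' ⟶ T) (q' : (yon S).obj N' ⟶ T), IsAlgSpace T ∧
      IsPullback q' ((yon S).map b) π u ∧ h ≫ π = ν ∧ q ≫ h = (yon S).map q₀ ≫ q' := by
  have hse : Etale s.left := (repWith_yon_map_iff _ s).1 (repWith_of_isPullback sqR hue)
  have hte : Etale t.left := (repWith_yon_map_iff _ t).1 (repWith_of_isPullback sqR.flip hue)
  let RN := pullback νU t
  let tN : RN ⟶ N := pullback.fst νU t
  let σN : RN ⟶ R := pullback.snd νU t
  let R' := pullback b t
  let t' : R' ⟶ N' := pullback.fst b t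
  let σ' : R' ⟶ R := pullback.snd b t
  let m : RN ⟶ R' := pullback.map νU t b t q₀ (𝟙 _) (𝟙 _) (by simp [hq₀]) (by simp)
  have hm₁ : m ≫ t' = tN ≫ q₀ := pullback.lift_fst _ _ _
  have hm₂ : m ≫ σ' = σN := (pullback.lift_snd _ _ _).trans (Category.comp_id _)
  have sqm : IsPullback tN m q₀ t' := by
    refine IsPullback.of_bot ?_ hm₁.symm (IsPullback.of_hasPullback b t)
    rw [hm₂, hq₀]
    exact IsPullback.of_hasPullback νU t
  have ht'e : Etale t'.left :=
    MorphismProperty.of_isPullback (P := @Etale) (isPullback_forget (IsPullback.of_hasPullback b t)).flip hte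
  have : IsSchemeTheoreticallyDominant m.left :=
    IsSchemeTheoreticallyDominant.of_isPullback (isPullback_forget sqm)
  have : QuasiCompact m.left :=
    MorphismProperty.of_isPullback (P := @QuasiCompact) (isPullback_forget sqm) ‹QuasiCompact q₀.left›
  obtain ⟨sN, hsN⟩ := (yon S).map_surjective (sq.lift ((yon S).map tN ≫ q) ((yon S).map (σN ≫ s)) (by
    rw [Category.assoc, sq.w, ← Category.assoc, ← Functor.map_comp, pullback.condition, Functor.map_comp,
      Functor.map_comp, Category.assoc, Category.assoc, sqR.w]))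
  have hsN₁ : (yon S).map sN ≫ q = (yon S).map tN ≫ q := by rw [hsN, sq.lift_fst]
  have hsN₂ : sN ≫ νU = σN ≫ s := (yon S).map_injective (by rw [Functor.map_comp, hsN, sq.lift_snd])
  obtain ⟨s', hs'⟩ := hglue sN hsN₂ hsN₁
  change m ≫ s' = sN ≫ q₀ at hs'
  have hs'b : s' ≫ b = σ' ≫ s := ext_dom m (by
    rw [reassoc_of% hs', hq₀, hsN₂, reassoc_of% hm₂])
  -- lifting pairs
  have hpair : ∀ {T : Over S} (a₁ a₂ : T ⟶ U), (yon S).map a₁ ≫ u = (yon S).map a₂ ≫ u →
      ∃ r : T ⟶ R, r ≫ t = a₁ ∧ r ≫ s = a₂ := fun a₁ a₂ h => exists_pair_lift sqR a₁ a₂ h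
  have hRext : ∀ {T : Over S} (r r' : T ⟶ R), r ≫ t = r' ≫ t → r ≫ s = r' ≫ s → r = r' := fun r r' h₁ h₂ =>
    (yon S).map_injective (sqR.hom_ext (by rw [← Functor.map_comp, ← Functor.map_comp, h₁])
      (by rw [← Functor.map_comp, ← Functor.map_comp, h₂]))
  have hNext : ∀ {T : Over S} (x x' : T ⟶ N), (yon S).map x ≫ q = (yon S).map x' ≫ q → x ≫ νU = x' ≫ νU →
      x = x' := fun x x' h₁ h₂ => (yon S).map_injective (sq.hom_ext h₁ (by
        rw [← Functor.map_comp, ← Functor.map_comp, h₂]))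
  obtain ⟨δ, hδ₁, hδ₂⟩ := hpair (𝟙 U) (𝟙 U) rfl
  obtain ⟨inv', hi₁, hi₂⟩ := hpair s t sqR.w.symm
  -- composable pairs
  let R₂ := pullback s t
  let p₁ : R₂ ⟶ R := pullback.fst s t
  let p₂ : R₂ ⟶ R := pullback.snd s t
  obtain ⟨μ, hμ₁, hμ₂⟩ := hpair (p₁ ≫ t) (p₂ ≫ s) (by
    rw [Functor.map_comp, Category.assoc, sqR.w, ← Category.assoc, ← Functor.map_comp, pullback.condition,
      Functor.map_comp, Category.assoc, sqR.w, ← Category.assoc, ← Functor.map_comp])
  -- reflexivity
  let r₀ : N' ⟶ R' := pullback.lift (𝟙 _) (b ≫ δ) (by rw [Category.id_comp, Category.assoc, hδ₁, Category.comp_id])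
  have hr₀ : r₀ ≫ s' = 𝟙 N' := by
    apply ext_dom q₀
    let dN : N ⟶ RN := pullback.lift (𝟙 _) (νU ≫ δ) (by
      rw [Category.id_comp, Category.assoc, hδ₁, Category.comp_id])
    have e₁ : q₀ ≫ r₀ = dN ≫ m := by
      apply pullback.hom_ext
      · show (q₀ ≫ r₀) ≫ t' = (dN ≫ m) ≫ t'
        simp only [Category.assoc, r₀, t', dN, pullback.lift_fst, Category.comp_id]
        rw [show m ≫ pullback.fst b t = tN ≫ q₀ from hm₁]
        simp [tN]
        exact (Category.id_comp _).symm
      · show (q₀ ≫ r₀) ≫ σ' = (dN ≫ m) ≫ σ'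
        rw [Category.assoc, Category.assoc, hm₂]
        simp [r₀, σ', dN, σN, reassoc_of% hq₀]
    have e₂ : dN ≫ sN = 𝟙 N := hNext _ _ (by
        rw [Functor.map_comp, Category.assoc, hsN₁, ← Category.assoc, ← Functor.map_comp]
        simp [dN, tN])
      (by rw [Category.assoc, hsN₂, Category.id_comp]; simp [dN, σN, hδ₂])
    rw [reassoc_of% e₁, hs', ← Category.assoc, e₂, Category.id_comp, Category.comp_id]
  -- symmetry
  let ρ : R' ⟶ R' := pullback.lift s' (σ' ≫ inv') (by rw [hs'b, Category.assoc, hi₁])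
  have hρ : ρ ≫ s' = t' := by
    apply ext_dom m
    let ρN : RN ⟶ RN := pullback.lift sN (σN ≫ inv') (by rw [hsN₂, Category.assoc, hi₁])
    have e₁ : m ≫ ρ = ρN ≫ m := by
      apply pullback.hom_ext
      · show (m ≫ ρ) ≫ t' = (ρN ≫ m) ≫ t'
        rw [Category.assoc, Category.assoc, hm₁]
        simp [ρ, t', ρN, tN, hs']
      · show (m ≫ ρ) ≫ σ' = (ρN ≫ m) ≫ σ'
        rw [Category.assoc, Category.assoc, hm₂]
        simp only [ρ, σ', ρN, σN, pullback.lift_snd]
        rw [reassoc_of% (show m ≫ pullback.snd b t = σN from hm₂)]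
    have e₂ : ρN ≫ sN = tN := hNext _ _ (by
        rw [Functor.map_comp, Category.assoc, hsN₁, ← Category.assoc, ← Functor.map_comp,
          show ρN ≫ tN = sN from pullback.lift_fst _ _ _, hsN₁])
      (by
        rw [Category.assoc, hsN₂, ← Category.assoc, show ρN ≫ σN = σN ≫ inv' from pullback.lift_snd _ _ _,
          Category.assoc, hi₂]
        exact pullback.condition.symm)
    rw [reassoc_of% e₁, hs', reassoc_of% e₂, hm₁]
  -- transitivity
  let R'₂ := pullback (σ' ≫ s) t
  let a₁ : R'₂ ⟶ R' := pullback.fst _ _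
  let a₂ : R'₂ ⟶ R := pullback.snd _ _
  let z₁ : R'₂ ⟶ R' := pullback.lift (a₁ ≫ s') a₂ (by rw [Category.assoc, hs'b]; exact pullback.condition)
  let π₂ : R'₂ ⟶ R₂ := pullback.lift (a₁ ≫ σ') a₂ (by rw [Category.assoc]; exact pullback.condition)
  let z₂ : R'₂ ⟶ R' := pullback.lift (a₁ ≫ t') (π₂ ≫ μ) (by
    rw [Category.assoc π₂, hμ₁, Category.assoc, pullback.condition, ← Category.assoc π₂,
      show π₂ ≫ p₁ = a₁ ≫ σ' from pullback.lift_fst _ _ _, Category.assoc])
  have htrans : z₁ ≫ s' = z₂ ≫ s' := by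
    let RN₂ := pullback (σN ≫ s) t
    let c₁ : RN₂ ⟶ RN := pullback.fst _ _
    let c₂ : RN₂ ⟶ R := pullback.snd _ _
    let m₂ : RN₂ ⟶ R'₂ := pullback.map (σN ≫ s) t (σ' ≫ s) t m (𝟙 _) (𝟙 _) (by simp [reassoc_of% hm₂]) (by simp)
    have h₁ : m₂ ≫ a₁ = c₁ ≫ m := pullback.lift_fst _ _ _
    have h₂ : m₂ ≫ a₂ = c₂ := (pullback.lift_snd _ _ _).trans (Category.comp_id _)
    have sqm₂ : IsPullback c₁ m₂ m a₁ := by
      refine IsPullback.of_bot ?_ h₁.symm (IsPullback.of_hasPullback (σ' ≫ s) t)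
      rw [h₂, ← Category.assoc, hm₂]
      exact IsPullback.of_hasPullback (σN ≫ s) t
    have : Etale a₁.left :=
      MorphismProperty.of_isPullback (P := @Etale) (isPullback_forget (IsPullback.of_hasPullback (σ' ≫ s) t)).flip hte
    have : IsSchemeTheoreticallyDominant m₂.left :=
      IsSchemeTheoreticallyDominant.of_isPullback (isPullback_forget sqm₂)
    have : QuasiCompact m₂.left :=
      MorphismProperty.of_isPullback (P := @QuasiCompact) (isPullback_forget sqm₂) ‹QuasiCompact m.left›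
    let y₁ : RN₂ ⟶ RN := pullback.lift (c₁ ≫ sN) c₂ (by rw [Category.assoc, hsN₂]; exact pullback.condition)
    let πN : RN₂ ⟶ R₂ := pullback.lift (c₁ ≫ σN) c₂ (by rw [Category.assoc]; exact pullback.condition)
    let y₂ : RN₂ ⟶ RN := pullback.lift (c₁ ≫ tN) (πN ≫ μ) (by
      rw [Category.assoc πN, hμ₁, Category.assoc, pullback.condition, ← Category.assoc πN,
        show πN ≫ p₁ = c₁ ≫ σN from pullback.lift_fst _ _ _, Category.assoc])
    have hπ : m₂ ≫ π₂ = πN := by
      apply pullback.hom_ext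
      · show (m₂ ≫ π₂) ≫ p₁ = πN ≫ p₁
        rw [Category.assoc, show π₂ ≫ p₁ = a₁ ≫ σ' from pullback.lift_fst _ _ _, reassoc_of% h₁, hm₂,
          show πN ≫ p₁ = c₁ ≫ σN from pullback.lift_fst _ _ _]
      · show (m₂ ≫ π₂) ≫ p₂ = πN ≫ p₂
        rw [Category.assoc, show π₂ ≫ p₂ = a₂ from pullback.lift_snd _ _ _, h₂,
          show πN ≫ p₂ = c₂ from pullback.lift_snd _ _ _]
    have e₁ : m₂ ≫ z₁ = y₁ ≫ m := by
      apply pullback.hom_ext
      · show (m₂ ≫ z₁) ≫ t' = (y₁ ≫ m) ≫ t'
        rw [Category.assoc, show z₁ ≫ t' = a₁ ≫ s' from pullback.lift_fst _ _ _, reassoc_of% h₁, hs',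
          Category.assoc, hm₁, ← Category.assoc y₁, show y₁ ≫ tN = c₁ ≫ sN from pullback.lift_fst _ _ _,
          Category.assoc]
      · show (m₂ ≫ z₁) ≫ σ' = (y₁ ≫ m) ≫ σ'
        rw [Category.assoc, show z₁ ≫ σ' = a₂ from pullback.lift_snd _ _ _, h₂, Category.assoc, hm₂,
          show y₁ ≫ σN = c₂ from pullback.lift_snd _ _ _]
    have e₂ : m₂ ≫ z₂ = y₂ ≫ m := by
      apply pullback.hom_ext
      · show (m₂ ≫ z₂) ≫ t' = (y₂ ≫ m) ≫ t'
        rw [Category.assoc, show z₂ ≫ t' = a₁ ≫ t' from pullback.lift_fst _ _ _, reassoc_of% h₁, hm₁,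
          Category.assoc, hm₁, ← Category.assoc y₂, show y₂ ≫ tN = c₁ ≫ tN from pullback.lift_fst _ _ _,
          Category.assoc]
      · show (m₂ ≫ z₂) ≫ σ' = (y₂ ≫ m) ≫ σ'
        rw [Category.assoc, show z₂ ≫ σ' = π₂ ≫ μ from pullback.lift_snd _ _ _, reassoc_of% hπ, Category.assoc,
          hm₂, show y₂ ≫ σN = πN ≫ μ from pullback.lift_snd _ _ _]
    have e₃ : y₁ ≫ sN = y₂ ≫ sN := hNext _ _ (by
        simp only [Functor.map_comp, Category.assoc, hsN₁]
        rw [← Category.assoc, ← Functor.map_comp, ← Category.assoc ((yon S).map y₂), ← Functor.map_comp,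
          show y₁ ≫ tN = c₁ ≫ sN from pullback.lift_fst _ _ _,
          show y₂ ≫ tN = c₁ ≫ tN from pullback.lift_fst _ _ _, Functor.map_comp, Functor.map_comp,
          Category.assoc, Category.assoc, hsN₁])
      (by
        rw [Category.assoc, Category.assoc, hsN₂, ← Category.assoc, ← Category.assoc y₂,
          show y₁ ≫ σN = c₂ from pullback.lift_snd _ _ _, show y₂ ≫ σN = πN ≫ μ from pullback.lift_snd _ _ _,
          Category.assoc, hμ₂, ← Category.assoc, show πN ≫ p₂ = c₂ from pullback.lift_snd _ _ _])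
    refine ext_dom m₂ ?_
    rw [reassoc_of% e₁, hs', reassoc_of% e₂, hs', reassoc_of% e₃]
  have hR : IsEqvRel s' t' := by
    refine { injective := fun T r r' h₁ h₂ => pullback.hom_ext h₁ ?_, equivalence := fun T => ⟨fun x => ?_, ?_, ?_⟩ }
    · show r ≫ σ' = r' ≫ σ'
      refine hRext _ _ ?_ ?_
      · rw [Category.assoc, Category.assoc, ← pullback.condition, reassoc_of% h₁]
      · rw [Category.assoc, Category.assoc, ← hs'b, reassoc_of% h₂]
    · refine ⟨x ≫ r₀, ?_, ?_⟩
      · show (x ≫ r₀) ≫ t' = x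
        simp [r₀, t']
      · show (x ≫ r₀) ≫ s' = x
        rw [Category.assoc, hr₀, Category.comp_id]
    · rintro x y ⟨r, rfl, rfl⟩
      refine ⟨r ≫ ρ, ?_, ?_⟩
      · show (r ≫ ρ) ≫ t' = r ≫ s'
        rw [Category.assoc, show ρ ≫ t' = s' from pullback.lift_fst _ _ _]
      · show (r ≫ ρ) ≫ s' = r ≫ t'
        rw [Category.assoc, hρ]
    · rintro x y z ⟨r, rfl, hy⟩ ⟨r', rfl, rfl⟩
      let w : T ⟶ R'₂ := pullback.lift r (r' ≫ σ') (by
        rw [← hs'b, reassoc_of% hy, Category.assoc, ← pullback.condition])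
      have hw₁ : w ≫ z₁ = r' := by
        apply pullback.hom_ext
        · show (w ≫ z₁) ≫ t' = r' ≫ t'
          rw [Category.assoc, show z₁ ≫ t' = a₁ ≫ s' from pullback.lift_fst _ _ _, ← Category.assoc,
            show w ≫ a₁ = r from pullback.lift_fst _ _ _, hy]
        · show (w ≫ z₁) ≫ σ' = r' ≫ σ'
          rw [Category.assoc, show z₁ ≫ σ' = a₂ from pullback.lift_snd _ _ _,
            show w ≫ a₂ = r' ≫ σ' from pullback.lift_snd _ _ _]
      refine ⟨w ≫ z₂, ?_, ?_⟩
      · show (w ≫ z₂) ≫ t' = r ≫ t'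
        rw [Category.assoc, show z₂ ≫ t' = a₁ ≫ t' from pullback.lift_fst _ _ _, ← Category.assoc,
          show w ≫ a₁ = r from pullback.lift_fst _ _ _]
      · show (w ≫ z₂) ≫ s' = r' ≫ s'
        rw [Category.assoc, ← htrans, reassoc_of% hw₁]
  have hs'e : Etale s'.left := by
    have hρρ : ρ ≫ ρ = 𝟙 R' := by
      apply pullback.hom_ext
      · show (ρ ≫ ρ) ≫ t' = 𝟙 _ ≫ t'
        rw [Category.assoc, show ρ ≫ t' = s' from pullback.lift_fst _ _ _, hρ, Category.id_comp]
      · show (ρ ≫ ρ) ≫ σ' = 𝟙 _ ≫ σ'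
        have hρσ : ρ ≫ σ' = σ' ≫ inv' := pullback.lift_snd _ _ _
        rw [Category.assoc, hρσ, reassoc_of% hρσ, Category.id_comp]
        refine hRext _ _ ?_ ?_ <;> simp only [Category.assoc, hi₁, hi₂]
    have : IsIso ρ := ⟨ρ, hρρ, hρρ⟩
    have : IsIso ρ.left := inferInstanceAs (IsIso ((Over.forget S).map ρ))
    rw [show s' = ρ ≫ t' from (pullback.lift_fst _ _ _).symm, Over.comp_left]
    exact MorphismProperty.comp_mem @Etale _ _ inferInstance ht'e
  have hT : IsAlgSpace (QuotSh.quot Scheme.fppfPrecoverage s' t') := AlgSpDec.isAlgSpace_quot hR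
  obtain ⟨q', hq'⟩ : ∃ q' : (yon S).obj N' ⟶ QuotSh.quot Scheme.fppfPrecoverage s' t',
      q' = AlgSpPts.quotMap s' t' := ⟨_, rfl⟩
  have sqq : IsPullback ((yon S).map t') ((yon S).map s') q' q' := by
    rw [hq']
    exact AlgSpPts.isPullback_quotMap hR
  have : Sheaf.IsLocallySurjective q' := by
    rw [hq']
    have : Epi (QuotSh.quotπ Scheme.fppfPrecoverage s' t') := by
      unfold QuotSh.quotπ
      infer_instance
    exact (CategoryTheory.Sheaf.isLocallySurjective_iff_epi _).2 (epi_comp _ _)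
  have : Epi q' := (Sheaf.isLocallySurjective_iff_epi q').1 inferInstance
  have hr : Representable q' := AlgSpDec.representable_of_kernelPair sqq
  have := AlgSpPts.isLocalAtTarget_fppf (@Etale : MorphismProperty Scheme.{u})
  have := AlgSpPts.isLocalAtTarget_fppf (@Surjective : MorphismProperty Scheme.{u})
  have he : RepWith @Etale q' :=
    AlgSpPts.repWith_of_locallySurjective hr _ sqq @Etale ((repWith_yon_map_iff _ _).2 hs'e)
  have hs's : Surjective s'.left := ⟨fun x => ⟨r₀.left x, by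
    rw [← Scheme.Hom.comp_apply, ← Over.comp_left, hr₀]; rfl⟩⟩
  have hsj : RepWith @Surjective q' :=
    AlgSpPts.repWith_of_locallySurjective hr _ sqq @Surjective ((repWith_yon_map_iff _ _).2 hs's)
  obtain ⟨π, hπ⟩ := AlgSpDec.exists_desc_of_kernelPair sqq ((yon S).map b ≫ u) (by
    rw [← Category.assoc, ← Category.assoc, ← Functor.map_comp, ← Functor.map_comp, hs'b, pullback.condition,
      Functor.map_comp, Functor.map_comp, Category.assoc, Category.assoc, sqR.w])
  have sqT : IsPullback q' ((yon S).map b) π u := by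
    refine (isPullback_of_etale_surjective (IsAlgSpace.yon_obj R') (IsAlgSpace.yon_obj N') (IsAlgSpace.yon_obj N') hT
      (IsAlgSpace.yon_obj U) hX sqq.flip hπ ?_ ?_ ?_).flip
    · rw [← Functor.map_comp, hs'b, Functor.map_comp, hπ]
      exact (((IsPullback.of_hasPullback b t).map (yon S)).flip.paste_horiz sqR.flip)
    · intro x
      obtain ⟨v, hv⟩ := surjective_ofPt hsj x
      exact ⟨Points.schemeHomeo N' v, (map_yon_ofPt q' v).trans hv⟩
    · exact isEtaleMor_of_repWith _ he
  have hqe : RepWith @Etale q := repWith_of_isPullback sq.flip hue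
  have hqs : RepWith @Surjective q := repWith_of_isPullback sq.flip hus
  have : Sheaf.IsLocallySurjective q := isLocallySurjective_of_etale_surjective hqe hqs
  have : Epi q := (Sheaf.isLocallySurjective_iff_epi q).1 inferInstance
  have sqN : IsPullback ((yon S).map tN) ((yon S).map sN) q q := by
    refine IsPullback.of_bot ?_ hsN₁.symm sq
    rw [← Functor.map_comp, hsN₂, Functor.map_comp, sq.w]
    exact ((IsPullback.of_hasPullback νU t).map (yon S)).paste_vert sqR
  obtain ⟨h, hh⟩ := AlgSpDec.exists_desc_of_kernelPair sqN ((yon S).map q₀ ≫ q') (by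
    rw [← Category.assoc, ← Category.assoc, ← Functor.map_comp, ← Functor.map_comp, ← hm₁, ← hs', Functor.map_comp,
      Functor.map_comp, Category.assoc, Category.assoc, sqq.w])
  refine ⟨_, π, h, q', hT, sqT, ?_, hh⟩
  rw [← cancel_epi q, reassoc_of% hh, hπ, ← Category.assoc, ← Functor.map_comp, hq₀]
  exact sq.w.symm

end Groth.Agent.NormSp
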