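import Groth.Agent.NormSp.Aff
import Groth.Agent.NormSp.SubSpec
import Groth.Agent.AlgSpMod.FiniteTypeUnion
import Groth.Agent.AlgSpMod.FinLocFreePush

/-!
# A finite subalgebra of an integral algebra on a qcqs space containing given sections

The direct image of the structure sheaf of an integral space is a union of submodules of finite type.
-/

set_option autoImplicit false
set_option backward.isDefEq.respectTransparency false
set_option backward.isDefEq.respectTransparency.types false
set_option maxHeartbeats 1000000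

universe u

open CategoryTheory CategoryTheory.Limits AlgebraicGeometry Opposite AlgSp TensorProduct
open Groth.Agent.AlgSpLib Groth.Agent.AlgSpMod

namespace Groth.Agent.NormSp

/-- A section that locally comes from below along a schematically dominant map comes from below. -/
theorem mem_range_appTop_of_local {A B : Scheme.{u}} (m : A ⟶ B) [IsSchemeTheoreticallyDominant m] [QuasiCompact m]
    {ι : Type u} (W : ι → B.Opens) (hW : ⊤ ≤ iSup W) (x : Γ(A, ⊤))
    (h : ∀ i, A.presheaf.map (homOfLE le_top).op x ∈ (m.app (W i)).hom.range) : x ∈ m.appTop.hom.range := by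
  choose y hy using h
  have hcomp : TopCat.Presheaf.IsCompatible B.sheaf.obj W y := fun i j => by
    refine m.app_injective _ ?_
    refine (ConcreteCategory.congr_hom (m.naturality (TopologicalSpace.Opens.infLELeft (W i) (W j)).op) (y i)).trans
      (Eq.trans ?_ (ConcreteCategory.congr_hom (m.naturality (TopologicalSpace.Opens.infLERight (W i) (W j)).op)
        (y j)).symm)
    show A.presheaf.map _ ((m.app (W i)).hom (y i)) = A.presheaf.map _ ((m.app (W j)).hom (y j))
    rw [hy i, hy j, ← CommRingCat.comp_apply, ← CommRingCat.comp_apply, ← A.presheaf.map_comp, ← A.presheaf.map_comp]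
    rfl
  obtain ⟨z, hz, -⟩ := B.sheaf.existsUnique_gluing' W ⊤ (fun i => homOfLE le_top) hW y hcomp
  refine ⟨z, ?_⟩
  refine A.sheaf.eq_of_locally_eq' (fun i => m ⁻¹ᵁ W i) ⊤ (fun i => homOfLE le_top) ?_ _ _ fun i => ?_
  · rw [← Scheme.Hom.preimage_iSup]
    exact fun a _ => hW (x := m a) trivial
  · refine Eq.trans ?_ (hy i)
    refine (ConcreteCategory.congr_hom (m.naturality (homOfLE (le_top : W i ≤ ⊤)).op) z).symm.trans ?_
    exact congrArg (m.app (W i)).hom (hz i)

theorem morphismRestrict_appTop_topIso {A B : Scheme.{u}} (f : A ⟶ B) (W : B.Opens) :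
    (f ∣_ W).appTop ≫ (f ⁻¹ᵁ W).topIso.hom = W.topIso.hom ≫ f.app W := by
  rw [morphismRestrict_appTop, Scheme.Opens.topIso_hom, Scheme.Opens.topIso_hom, Category.assoc,
    f.naturality (eqToHom _).op, ← A.presheaf.map_comp]
  rfl

variable {S : Scheme.{u}} [QuasiSeparatedSpace ↥S] {X X' : Sp S} {U R : Over S} {u : (yon S).obj U ⟶ X}
  {ν : X' ⟶ X} {t s : R ⟶ U}

/-- Finitely many functions on the pullback to the atlas lie in a finite subalgebra with glueing data. -/
theorem exists_finite_subalg (hX : IsAlgSpace X) (hqc : IsQuasiCompactSp X) (hqs : IsQuasiSeparatedSp X)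
    (hν : IsIntegralMor ν) (hr : Representable ν) (hue : RepWith @Etale u) [IsAffine U.left]
    (sqR : IsPullback ((yon S).map t) ((yon S).map s) u u) (a : Finset Γ((hr.pullback u).left, ⊤)) :
    ∃ (N' : Over S) (b : N' ⟶ U) (q₀ : hr.pullback u ⟶ N'), IsAffine N'.left ∧ IsFinite b.left ∧
      q₀ ≫ b = hr.snd u ∧ Function.Injective q₀.left.appTop.hom ∧ (∀ x ∈ a, x ∈ Set.range q₀.left.appTop.hom) ∧
      ∀ [IsSchemeTheoreticallyDominant q₀.left] [QuasiCompact q₀.left]
        (sN : pullback (hr.snd u) t ⟶ hr.pullback u), sN ≫ hr.snd u = pullback.snd (hr.snd u) t ≫ s →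
        (yon S).map sN ≫ hr.fst u = (yon S).map (pullback.fst (hr.snd u) t) ≫ hr.fst u →
        ∃ (m : pullback (hr.snd u) t ⟶ pullback b t) (s' : pullback b t ⟶ N'),
          m ≫ pullback.fst b t = pullback.fst (hr.snd u) t ≫ q₀ ∧
          m ≫ pullback.snd b t = pullback.snd (hr.snd u) t ∧ m ≫ s' = sN ≫ q₀ := by
  classical
  have hint : IsIntegralHom (hr.snd u).left :=
    (AlgSpDec.isIntegralMor_iff_repWith.1 hν).property _ _ _ (hr.isPullback u)
  have haff : IsAffineMor ν := AlgSpDec.isAffineMor_of_repWith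
    (fun _ _ e (_ : IsIntegralHom e) => inferInstanceAs (IsAffineHom e)) (AlgSpDec.isIntegralMor_iff_repWith.1 hν)
  have hA := aff_bcObj_of_isAffineMor hr haff
  let E : EtOver X := EtOver.mk u hue
  have hE : Aff E := ‹IsAffine U.left›
  let M : ModEt X := (pushModEt hr).obj (unitModEt X')
  have hM : Good M := good_push hr _ hA good_unit
  let N := hr.pullback u
  have : IsAffine N.left := isAffine_of_isAffineHom (hr.snd u).left
  -- a submodule of finite type containing the given functions
  let ea := a.equivFin.symm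
  let σ : ∀ i : Fin a.card, sectModEt M E := fun i => (show Rg (EtOver.bcObj hr E) from ⟨(ea i).1⟩)
  obtain ⟨N₁, ι, -, hN₁, hN₁q, hN₁f, hmem⟩ := exists_finiteType_sub hX hqc hqs hM (fun _ => E) (fun _ => hE) σ
  have : Module.Finite (Rg E) (SA N₁ (𝟙 E)) := finite_SA E
  obtain ⟨G, hG⟩ := Module.Finite.fg_top (R := Rg E) (M := SA N₁ (𝟙 E))
  let val : ∀ {F : EtOver X}, sectModEt N₁ F →+ Γ((hr.pullback F.obj.hom).left, ⊤) := fun {F} =>
    { toFun := fun z => (show Rg (EtOver.bcObj hr F) from ι.val.app (op F) z).down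
      map_zero' := congrArg ULift.down (map_zero (ι.val.app (op F)).hom)
      map_add' := fun x y => congrArg ULift.down (map_add (ι.val.app (op F)).hom x y) }
  have hval_smul : ∀ {F : EtOver X} (r : Rg F) (z : sectModEt N₁ F),
      val (r • z) = (hr.snd F.obj.hom).left.appTop.hom r.down * val z := fun {F} r z =>
    congrArg ULift.down ((ι.val.app (op F)).hom.map_smul r z)
  let vmap : ∀ {F : EtOver X} (_g : F ⟶ E), sectModEt N₁ E → sectModEt N₁ F := fun g z => N₁.val.map g.op z
  have hval_nat : ∀ {F : EtOver X} (g : F ⟶ E) (z : sectModEt N₁ E),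
      val (F := F) (vmap g z) = (EtOver.bcMap hr g).hom.left.left.appTop.hom (val (F := E) z) := fun g z =>
    congrArg ULift.down (PresheafOfModules.naturality_apply ι.val g.op z)
  algebraize [(hr.snd u).left.appTop.hom]
  let valE : SA N₁ (𝟙 E) → Γ(N.left, ⊤) := fun z => val (F := E) z
  let gens : Finset Γ(N.left, ⊤) := (G : Finset (SA N₁ (𝟙 E))).image valE
  let B : Subalgebra Γ(U.left, ⊤) Γ(N.left, ⊤) := Algebra.adjoin _ (gens : Set Γ(N.left, ⊤))
  have hspan : ∀ z : SA N₁ (𝟙 E), valE z ∈ B := fun z => by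
    have hz : z ∈ Submodule.span (Rg E) (G : Set (SA N₁ (𝟙 E))) := hG ▸ trivial
    induction hz using Submodule.span_induction with
    | mem z hz => exact Algebra.subset_adjoin (Finset.mem_image_of_mem _ hz)
    | zero => exact (show (0 : Γ(N.left, ⊤)) = valE 0 from (map_zero (val (F := E))).symm) ▸ B.zero_mem
    | add x y _ _ hx hy =>
      exact (show valE x + valE y = valE (x + y) from (map_add (val (F := E)) x y).symm) ▸ B.add_mem hx hy
    | smul r x _ hx =>
      have : valE (r • x : SA N₁ (𝟙 E)) = (hr.snd u).left.appTop.hom r.down * valE x := by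
        show val (F := E) _ = _
        rw [smul_SA_id]
        exact hval_smul (F := E) r x
      rw [this]
      exact B.mul_mem (B.algebraMap_mem r.down) hx
  have hamem : ∀ x ∈ a, x ∈ B := fun x hx => by
    obtain ⟨i, hi⟩ := ea.surjective ⟨x, hx⟩
    obtain ⟨z, hz⟩ := hmem i
    have := hspan z
    rwa [show valE z = x from (congrArg ULift.down hz).trans (congrArg Subtype.val hi)] at this
  have : Module.Finite Γ(U.left, ⊤) B := Module.Finite.iff_fg.2 (fg_adjoin_of_finite gens.finite_toSet
    fun x _ => appTop_isIntegral (hr.snd u).left x)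
  let φ : Γ(U.left, ⊤) ⟶ Γ(Spec (CommRingCat.of B), ⊤) :=
    CommRingCat.ofHom (algebraMap Γ(U.left, ⊤) B) ≫ (Scheme.ΓSpecIso (CommRingCat.of B)).inv
  obtain ⟨b₀, hb₀⟩ := exists_appTop (X := Spec (CommRingCat.of B)) (Y := U.left) φ
  let N' : Over S := CategoryTheory.Over.mk (b₀ ≫ U.hom)
  let b : N' ⟶ U := CategoryTheory.Over.homMk b₀ rfl
  have : IsAffine N'.left := inferInstanceAs (IsAffine (Spec (CommRingCat.of B)))
  obtain ⟨q₁, hq₁⟩ := exists_appTop (X := N.left) (Y := N'.left)
    ((Scheme.ΓSpecIso (CommRingCat.of B)).hom ≫ CommRingCat.ofHom B.val.toRingHom)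
  have hqb : q₁ ≫ b₀ = (hr.snd u).left := ext_of_isAffine (by
    rw [Scheme.Hom.comp_appTop, hb₀, hq₁, Category.assoc, Iso.inv_hom_id_assoc]
    rfl)
  let q₀ : N ⟶ N' := CategoryTheory.Over.homMk q₁ (by
    show q₁ ≫ b₀ ≫ U.hom = N.hom
    rw [← Category.assoc, hqb, Over.w (hr.snd u)])
  have happ : ∀ c, q₀.left.appTop.hom c = ((Scheme.ΓSpecIso (CommRingCat.of B)).hom.hom c).1 := fun c =>
    ConcreteCategory.congr_hom hq₁ c
  have hbij := ConcreteCategory.bijective_of_isIso (Scheme.ΓSpecIso (CommRingCat.of B)).hom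
  have hrange : ∀ x ∈ B, ∃ c, q₀.left.appTop.hom c = x := fun x hx => by
    obtain ⟨c, hc⟩ := hbij.2 ⟨x, hx⟩
    exact ⟨c, (happ c).trans (congrArg Subtype.val hc)⟩
  refine ⟨N', b, q₀, ‹_›, ?_, Over.OverMorphism.ext hqb, fun c d e => ?_, fun x hx => hrange x (hamem x hx), ?_⟩
  · show IsFinite b₀
    rw [HasAffineProperty.iff_of_isAffine (P := @IsFinite)]
    refine ⟨inferInstance, ?_⟩
    rw [hb₀, CommRingCat.hom_comp]
    exact (RingHom.Finite.of_surjective _ (ConcreteCategory.bijective_of_isIso
      (Scheme.ΓSpecIso (CommRingCat.of B)).inv).2).comp (show (algebraMap Γ(U.left, ⊤) B).Finite from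
        RingHom.finite_algebraMap.2 inferInstance)
  · rw [happ, happ] at e
    exact hbij.1 (Subtype.ext e)
  intro _ _ sN hsN₂ hsN₁
  let νU := hr.snd u
  let RN := pullback νU t
  let tN : RN ⟶ N := pullback.fst νU t
  let R' := pullback b t
  let t' : R' ⟶ N' := pullback.fst b t
  let σ' : R' ⟶ R := pullback.snd b t
  have hq₀b : q₀ ≫ b = νU := Over.OverMorphism.ext hqb
  let m : RN ⟶ R' := pullback.map νU t b t q₀ (𝟙 _) (𝟙 _) (by simp [hq₀b]) (by simp)
  have hm₁ : m ≫ t' = tN ≫ q₀ := pullback.lift_fst _ _ _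
  have hm₂ : m ≫ σ' = pullback.snd νU t := (pullback.lift_snd _ _ _).trans (Category.comp_id _)
  have sqm : IsPullback tN m q₀ t' := by
    refine IsPullback.of_bot ?_ hm₁.symm (IsPullback.of_hasPullback b t)
    rw [hm₂, hq₀b]
    exact IsPullback.of_hasPullback νU t
  have hte : Etale t.left := (repWith_yon_map_iff _ t).1 (repWith_of_isPullback sqR.flip hue)
  have ht'e : Etale t'.left :=
    MorphismProperty.of_isPullback (P := @Etale) (isPullback_forget (IsPullback.of_hasPullback b t)).flip hte
  have : IsSchemeTheoreticallyDominant m.left :=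
    IsSchemeTheoreticallyDominant.of_isPullback (isPullback_forget sqm)
  have : QuasiCompact m.left :=
    MorphismProperty.of_isPullback (P := @QuasiCompact) (isPullback_forget sqm) ‹QuasiCompact q₀.left›
  have key : ∀ c ∈ B, sN.left.appTop.hom c ∈ m.left.appTop.hom.range := by
    intro c hc
    induction hc using Algebra.adjoin_induction with
    | algebraMap r =>
      refine ⟨σ'.left.appTop.hom (s.left.appTop.hom r), ?_⟩
      have h : m.left ≫ σ'.left ≫ s.left = sN.left ≫ νU.left := by
        rw [← Over.comp_left, ← Over.comp_left, ← Over.comp_left, ← Category.assoc, hm₂, hsN₂]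
      exact ConcreteCategory.congr_hom (congrArg Scheme.Hom.appTop h) r
    | add x y _ _ hx hy => exact (map_add sN.left.appTop.hom x y).symm ▸ add_mem hx hy
    | mul x y _ _ hx hy => exact (map_mul sN.left.appTop.hom x y).symm ▸ mul_mem hx hy
    | mem x hx =>
      obtain ⟨g, -, rfl⟩ := Finset.mem_image.1 (Finset.mem_coe.1 hx)
      choose W hW hxW using fun x : R.left => exists_isAffineOpen_mem_and_subset
        (U := (⊤ : R.left.Opens)) (x := x) trivial
      refine mem_range_appTop_of_local m.left (fun x => σ'.left ⁻¹ᵁ W x) ?_ _ fun x => ?_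
      · intro p _
        exact TopologicalSpace.Opens.mem_iSup.2 ⟨σ'.left p, (hxW (σ'.left p)).1⟩
      let W₀ := W x
      let RW : Over S := Over.mk (W₀.ι ≫ R.hom)
      let ιW : RW ⟶ R := CategoryTheory.Over.homMk W₀.ι rfl
      let V₀ := (m ≫ σ').left ⁻¹ᵁ W₀
      let RV : Over S := Over.mk (V₀.ι ≫ RN.hom)
      let ιV : RV ⟶ RN := CategoryTheory.Over.homMk V₀.ι rfl
      let σW : RV ⟶ RW := CategoryTheory.Over.homMk ((m ≫ σ').left ∣_ W₀) (by
        show _ ≫ W₀.ι ≫ R.hom = V₀.ι ≫ RN.hom
        rw [← Category.assoc, morphismRestrict_ι, Category.assoc, Over.w (m ≫ σ')])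
      have hιe : Etale ιW.left := inferInstanceAs (Etale W₀.ι)
      let F : EtOver X := EtOver.mk ((yon S).map (ιW ≫ t) ≫ u) (by
        refine MorphismProperty.comp_mem _ _ _ ((repWith_yon_map_iff _ _).2 ?_) hue
        rw [Over.comp_left]
        exact MorphismProperty.comp_mem @Etale _ _ hιe hte)
      have : Aff F := hW x
      let gt : F ⟶ E := EtOver.homMk (ιW ≫ t) rfl
      let gs : F ⟶ E := EtOver.homMk (ιW ≫ s) (by
        show (yon S).map (ιW ≫ s) ≫ u = (yon S).map (ιW ≫ t) ≫ u
        rw [Functor.map_comp, Functor.map_comp, Category.assoc, Category.assoc, sqR.w])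
      have hσι : σW ≫ ιW = ιV ≫ m ≫ σ' := Over.OverMorphism.ext (morphismRestrict_ι _ _)
      let e : RV ⟶ hr.pullback F.obj.hom := hr.lift ((yon S).map (ιV ≫ tN) ≫ hr.fst u) σW (by
        rw [Category.assoc, hr.w, ← Category.assoc, ← Functor.map_comp, Category.assoc ιV, pullback.condition,
          ← hm₂, ← Category.assoc ιV, ← hσι]
        simp only [Functor.map_comp, Category.assoc]
        rfl)
      have he : ∀ (g : F ⟶ E) (k : RN ⟶ N), (yon S).map k ≫ hr.fst u = (yon S).map tN ≫ hr.fst u →
          ιV ≫ k ≫ νU = σW ≫ g.hom.left → e ≫ (EtOver.bcMap hr g).hom.left = ιV ≫ k := fun g k h₁ h₂ => by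
        refine hr.hom_ext ?_ ?_
        · rw [Functor.map_comp, Functor.map_comp, Category.assoc, Category.assoc, EtOver.map_bcMap_fst,
            hr.lift_fst, h₁, ← Category.assoc, ← Functor.map_comp]
        · rw [Category.assoc, Category.assoc, EtOver.bcMap_snd, hr.lift_snd_assoc]
          exact h₂.symm
      have het : e ≫ (EtOver.bcMap hr gt).hom.left = ιV ≫ tN := he gt tN rfl (by
        show ιV ≫ tN ≫ νU = σW ≫ ιW ≫ t
        rw [pullback.condition, ← hm₂, Category.assoc m, ← reassoc_of% hσι])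
      have hes : e ≫ (EtOver.bcMap hr gs).hom.left = ιV ≫ sN := he gs sN hsN₁ (by
        show ιV ≫ sN ≫ νU = σW ≫ ιW ≫ s
        rw [hsN₂, ← hm₂, Category.assoc m, ← reassoc_of% hσι])
      let T : Γ((hr.pullback F.obj.hom).left, ⊤) →+* Γ(RN.left, V₀) :=
        V₀.topIso.hom.hom.comp e.left.appTop.hom
      have hT : ∀ (g : F ⟶ E) (k : RN ⟶ N), e ≫ (EtOver.bcMap hr g).hom.left = ιV ≫ k → ∀ y,
          T ((EtOver.bcMap hr g).hom.left.left.appTop.hom y) =
            RN.left.presheaf.map (homOfLE le_top).op (k.left.appTop.hom y) := fun g k h y => by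
        have h' : e.left ≫ (EtOver.bcMap hr g).hom.left.left = V₀.ι ≫ k.left := congrArg (·.left) h
        have h'' := congrArg (fun l => Scheme.Hom.appTop l ≫ V₀.topIso.hom) h'
        simp only [Scheme.Hom.comp_appTop, Category.assoc] at h''
        refine (ConcreteCategory.congr_hom h'' y).trans ?_
        show V₀.topIso.hom (V₀.ι.appTop (k.left.appTop.hom y)) = _
        rw [Scheme.Opens.ι_appTop, Scheme.Opens.topIso_hom, ← CommRingCat.comp_apply, ← RN.left.presheaf.map_comp]
        rfl
      let Q := (m.left.app (σ'.left ⁻¹ᵁ W₀)).hom.range.comap T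
      have hQW : ∀ r : Rg F, (hr.snd F.obj.hom).left.appTop.hom r.down ∈ Q := fun r => by
        refine ⟨(σ'.left.app W₀).hom (W₀.topIso.hom.hom r.down), ?_⟩
        have h' : e.left ≫ (hr.snd F.obj.hom).left = (m ≫ σ').left ∣_ W₀ :=
          congrArg (·.left) (show e ≫ hr.snd F.obj.hom = σW from hr.lift_snd _ _ _)
        have h'' := congrArg (fun l => Scheme.Hom.appTop l ≫ V₀.topIso.hom) h'
        simp only [Scheme.Hom.comp_appTop, Category.assoc] at h''
        refine Eq.trans ?_ (ConcreteCategory.congr_hom h'' r.down).symm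
        refine Eq.trans ?_ (ConcreteCategory.congr_hom (morphismRestrict_appTop_topIso (m ≫ σ').left W₀) r.down).symm
        rfl
      have hQt : ∀ z : SA N₁ (𝟙 E), (EtOver.bcMap hr gt).hom.left.left.appTop.hom (valE z) ∈ Q := fun z => by
        obtain ⟨c, hc⟩ := hrange _ (hspan z)
        refine ⟨R'.left.presheaf.map (homOfLE le_top).op (t'.left.appTop.hom c), ?_⟩
        rw [hT gt tN het, ← hc]
        refine (ConcreteCategory.congr_hom (m.left.naturality
          (homOfLE (le_top : σ'.left ⁻¹ᵁ W₀ ≤ ⊤)).op) (t'.left.appTop.hom c)).trans ?_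
        exact congrArg (fun y => RN.left.presheaf.map _ y)
          (ConcreteCategory.congr_hom (congrArg (fun l : RN ⟶ N' => l.left.appTop) hm₁) c)
      show RN.left.presheaf.map (homOfLE le_top).op (sN.left.appTop.hom (valE g)) ∈
        (m.left.app (σ'.left ⁻¹ᵁ W₀)).hom.range
      suffices h : val (F := F) (vmap gs g) ∈ Q by
        obtain ⟨c, hc⟩ := h
        exact ⟨c, hc.trans ((congrArg T (hval_nat gs g)).trans (hT gs sN hes _))⟩
      obtain ⟨w, hw⟩ := (hN₁.bij gt hE ‹Aff F›).2 (show SA N₁ gt from N₁.val.map gs.op g)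
      rw [show vmap gs g = bc N₁ gt w from hw.symm]
      clear hw
      induction w with
      | zero => exact (map_zero (val (F := F))).symm.trans (congrArg (val (F := F)) (map_zero (bc N₁ gt)).symm) ▸
          Q.zero_mem
      | tmul r z =>
        rw [show val (F := F) (bc N₁ gt (r ⊗ₜ z)) = (hr.snd F.obj.hom).left.appTop.hom (show Rg F from r).down *
          (show Γ((hr.pullback F.obj.hom).left, ⊤) from
            (EtOver.bcMap hr gt).hom.left.left.appTop.hom (val (F := E) z)) from
          (congrArg (val (F := F)) (bc_tmul N₁ gt r z)).trans ((hval_smul (F := F) r _).trans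
            (congrArg _ (hval_nat gt z)))]
        exact Q.mul_mem (hQW r) (hQt z)
      | add x y hx hy =>
        rw [show val (F := F) (bc N₁ gt (x + y)) = val (F := F) (bc N₁ gt x) + val (F := F) (bc N₁ gt y) from
          (congrArg (val (F := F)) (map_add (bc N₁ gt) x y)).trans (map_add (val (F := F)) _ _)]
        exact Q.add_mem hx hy
  -- the morphism
  have hinjm : Function.Injective m.left.appTop.hom := m.left.app_injective ⊤
  let em := RingEquiv.ofBijective m.left.appTop.hom.rangeRestrict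
    ⟨fun x y e => hinjm (congrArg Subtype.val e), m.left.appTop.hom.rangeRestrict_surjective⟩
  have hmemq : ∀ c : Γ(N'.left, ⊤), (q₀.left.appTop ≫ sN.left.appTop).hom c ∈ m.left.appTop.hom.range := fun c =>
    key _ (by
      show q₀.left.appTop.hom c ∈ B
      rw [happ]; exact ((Scheme.ΓSpecIso (CommRingCat.of B)).hom.hom c).2)
  let χ : Γ(N'.left, ⊤) ⟶ Γ(R'.left, ⊤) := CommRingCat.ofHom
    (em.symm.toRingHom.comp ((q₀.left.appTop ≫ sN.left.appTop).hom.codRestrict m.left.appTop.hom.range hmemq))
  have hχ : χ ≫ m.left.appTop = q₀.left.appTop ≫ sN.left.appTop := CommRingCat.hom_ext (RingHom.ext fun c => by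
    exact congrArg Subtype.val (em.apply_symm_apply ⟨_, hmemq c⟩))
  obtain ⟨s₀, hs₀⟩ := exists_appTop (X := R'.left) (Y := N'.left) χ
  have hms : m.left ≫ s₀ = sN.left ≫ q₀.left := ext_of_isAffine (by
    rw [Scheme.Hom.comp_appTop, Scheme.Hom.comp_appTop, hs₀, hχ])
  have hsb : s₀ ≫ b₀ = σ'.left ≫ s.left := ext_of_isAffine (by
    have : Mono m.left.appTop := ConcreteCategory.mono_of_injective _ hinjm
    rw [← cancel_mono m.left.appTop, ← Scheme.Hom.comp_appTop, ← Scheme.Hom.comp_appTop, reassoc_of% hms,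
      show q₀.left ≫ b₀ = νU.left from hqb, ← Over.comp_left, hsN₂, ← hm₂, Category.assoc, Over.comp_left,
      Over.comp_left])
  refine ⟨m, CategoryTheory.Over.homMk s₀ ?_, hm₁, hm₂, Over.OverMorphism.ext hms⟩
  show s₀ ≫ b₀ ≫ U.hom = R'.hom
  rw [← Category.assoc, hsb, Category.assoc, Over.w s, Over.w σ']

end Groth.Agent.NormSp
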