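import Groth.Agent.NormSp.Exists
import Groth.Agent.AlgSpDec.SchemeNormalization
import Groth.Agent.AlgSpDec.LqfScheme
import Groth.Agent.AlgSpDec.FppfDescent
import Groth.Agent.AlgSpPts.SepDescent
import Mathlib.AlgebraicGeometry.ZariskisMainTheorem

/-!
# Zariski's main theorem for normalizations of algebraic spaces
-/

set_option autoImplicit false
set_option backward.isDefEq.respectTransparency false
set_option backward.isDefEq.respectTransparency.types false

universe u

open CategoryTheory CategoryTheory.Limits AlgebraicGeometry Opposite AlgSp Groth.Agent.AlgSpLib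

namespace Groth.Agent.NormSp

variable {S : Scheme.{u}} {X Y Y' : Sp S} {f : X ⟶ Y} {ν : Y' ⟶ Y} {f' : X ⟶ Y'}

/-- A representable separated morphism is separated on schemes. -/
theorem repWith_isSeparated (hr : Representable f) (hs : IsSeparatedMor f) : RepWith @IsSeparated f :=
  ⟨hr, fun _ _ _ _ snd sq => ⟨(repWith_diagonal_yon_map_iff _ snd).1 (AlgSpPts.isSeparatedMor_of_isPullback sq hs)⟩⟩

/-- A quasi-finite separated morphism maps to the normalization by an open immersion. -/
theorem repWith_isOpenImmersion_norm (hX : IsAlgSpace X) (hY : IsAlgSpace Y)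
    (hqf : LocP (@LocallyQuasiFinite ⊓ @LocallyOfFiniteType) f) (hqc : IsQuasiCompactMor f)
    (hsep : IsSeparatedMor f) (hqs : IsQuasiSeparatedMor f) (hn : IsRelNormalization f ν f') :
    RepWith @IsOpenImmersion f' ∧ RepWith @QuasiCompact f' := by
  have hr := AlgSpDec.representable_of_lqf_separated hX hY f hqf hsep
  have hl := repWith_of_locP hY hr hqf
  have hsp := repWith_isSeparated hr hsep
  have hc := AlgSpPts.repWith_quasiCompact hr hqc
  have hνr := AlgSpDec.isIntegralMor_iff_repWith.1 hn.2.1
  have hY' : IsAlgSpace Y' := isAlgSpace_of_norm hY hn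
  have hqc' : RepWith @QuasiCompact f' := by
    refine of_comp_of_diagonal (RepWith @QuasiCompact) f' ν (by rw [hn.1]; exact hc) ?_
    exact repWith_diagonal (P := @IsIntegralHom) hνr fun g (_ : IsIntegralHom g) =>
      inferInstanceAs (QuasiCompact (pullback.diagonal g))
  refine ⟨?_, hqc'⟩
  obtain ⟨U, u, hue, hus⟩ := hY.atlas
  let V := hr.pullback u
  let v : V ⟶ U := hr.snd u
  let N := hνr.rep.pullback u
  let n : N ⟶ U := hνr.rep.snd u
  let p : (yon S).obj N ⟶ Y' := hνr.rep.fst u
  let fV : V ⟶ N := hνr.rep.lift (g := u) (hr.fst u ≫ f') v (by rw [Category.assoc, hn.1]; exact hr.w u)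
  have hfV₁ : (yon S).map fV ≫ p = hr.fst u ≫ f' := hνr.rep.lift_fst _ _ _
  have hfV₂ : fV ≫ n = v := hνr.rep.lift_snd _ _ _
  have sqp : IsPullback p ((yon S).map n) ν u := hνr.rep.isPullback u
  -- the comparison with the normalization of schemes
  have hN : IsRelNormalization ((yon S).map v) ((yon S).map n) ((yon S).map fV) :=
    ((isUN_of_norm hX hY hqc hqs hn).baseChange u (smooth_of_etale hue) (hr.isPullback u) sqp
      (by rw [← Functor.map_comp, hfV₂]) hfV₁).isRelNormalization (IsAlgSpace.yon_obj U)
  have : LocallyQuasiFinite v.left := (hl.property_snd u).1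
  have : LocallyOfFiniteType v.left := (hl.property_snd u).2
  have : IsSeparated v.left := hsp.property_snd u
  have : QuasiCompact v.left := hc.property_snd u
  let N₀ : Over S := CategoryTheory.Over.mk (v.left.fromNormalization ≫ U.hom)
  let ν₀ : N₀ ⟶ U := CategoryTheory.Over.homMk v.left.fromNormalization rfl
  let f₀ : V ⟶ N₀ := CategoryTheory.Over.homMk v.left.toNormalization (by
    show v.left.toNormalization ≫ v.left.fromNormalization ≫ U.hom = V.hom
    rw [← Category.assoc, Scheme.Hom.toNormalization_fromNormalization, Over.w v])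
  have h₀ : IsRelNormalization ((yon S).map v) ((yon S).map ν₀) ((yon S).map f₀) :=
    AlgSpDec.SchemeNormalization.isRelNormalization v f₀ ν₀ (Iso.refl _) (Category.comp_id _) (Category.id_comp _)
  obtain ⟨e, he, -⟩ := exists_iso_of_norm (IsAlgSpace.yon_obj U) h₀ hN
  have hfo : RepWith @IsOpenImmersion ((yon S).map fV) := by
    rw [← he]
    exact repWith_comp ((repWith_yon_map_iff _ f₀).2 (inferInstanceAs (IsOpenImmersion v.left.toNormalization)))
      (repWith_of_isIso _ e.hom)
  have sqf : IsPullback (hr.fst u) ((yon S).map fV) f' p := by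
    refine IsPullback.of_bot ?_ hfV₁.symm sqp
    rw [← Functor.map_comp, hfV₂, hn.1]
    exact hr.isPullback u
  have hpe : RepWith @Etale p := repWith_of_isPullback sqp.flip hue
  have hps : RepWith @Surjective p := repWith_of_isPullback sqp.flip hus
  exact AlgSpDec.Fppf.repWith_isOpenImmersion_of_fppf_cover
    ⟨hpe.rep, fun _ _ g fst snd sq => by
      have : Etale snd.left := hpe.property g fst snd sq
      have : Surjective snd.left := hps.property g fst snd sq
      exact fppf_of_etale snd.left⟩ sqf hfo

/-- A morphism which is a quasi-compact open immersion into an affine morphism is quasi-affine. -/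
theorem isQuasiAffineMor_of_open_affine (h₁ : RepWith @IsOpenImmersion f') (h₂ : RepWith @QuasiCompact f')
    (hν : RepWith @IsIntegralHom ν) (hfac : f' ≫ ν = f) : IsQuasiAffineMor f := by
  intro Z hZ g
  have : IsIntegralHom (hν.rep.snd g).left := hν.property_snd g
  let M := hν.rep.pullback g
  have : IsAffine M.left := isAffine_of_isAffineHom (hν.rep.snd g).left
  let W := h₁.rep.pullback (hν.rep.fst g)
  let i : W ⟶ M := h₁.rep.snd (hν.rep.fst g)
  have : IsOpenImmersion i.left := h₁.property_snd _
  have : QuasiCompact i.left := h₂.property _ _ _ (h₁.rep.isPullback _)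
  have : CompactSpace W.left := QuasiCompact.compactSpace_of_compactSpace i.left
  refine ⟨W, i ≫ hν.rep.snd g, h₁.rep.fst (hν.rep.fst g), ?_, Scheme.IsQuasiAffine.of_isImmersion i.left⟩
  rw [← hfac, Functor.map_comp]
  exact (h₁.rep.isPullback (hν.rep.fst g)).paste_vert (hν.rep.isPullback g)

end Groth.Agent.NormSp
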