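import Groth.Agent.NormSp.Zmt
import Groth.Agent.NormSp.OpenGens
import Groth.Agent.NormSp.SubAlg
import Groth.Agent.AlgSpPts.Misc
import Groth.Agent.AlgSpDec.LimDescentRep

/-!
# Zariski's main theorem: factorisation through a finite morphism
-/

set_option autoImplicit false
set_option backward.isDefEq.respectTransparency false
set_option backward.isDefEq.respectTransparency.types false

universe u

open CategoryTheory CategoryTheory.Limits AlgebraicGeometry Opposite AlgSp Groth.Agent.AlgSpLib

namespace Groth.Agent.NormSp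

variable {S : Scheme.{u}}

/-- An injective map on global functions between affine schemes is schematically dominant. -/
theorem isSTD_of_injective {A B : Scheme.{u}} [IsAffine A] [IsAffine B] (q : A ⟶ B)
    (h : Function.Injective q.appTop.hom) : IsSchemeTheoreticallyDominant q := by
  rw [isSchemeTheoreticallyDominant_iff]
  refine Scheme.IdealSheafData.ext_of_isAffine ?_
  rw [Scheme.Hom.ker_apply, Scheme.IdealSheafData.ideal_bot, Pi.bot_apply]
  exact (RingHom.injective_iff_ker_eq_bot _).1 h

theorem exists_openImm_finite [QuasiSeparatedSpace ↥S] {X Y : Sp S} (hX : IsAlgSpace X) (hY : IsAlgSpace Y)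
    (f : X ⟶ Y) (hqf : LocP (@LocallyQuasiFinite ⊓ @LocallyOfFiniteType) f) (hqc : IsQuasiCompactMor f)
    (hsep : IsSeparatedMor f) (hYc : IsQuasiCompactSp Y) (hYs : IsQuasiSeparatedSp Y) :
    ∃ (T : Sp S) (j : X ⟶ T) (π : T ⟶ Y), IsAlgSpace T ∧ j ≫ π = f ∧ RepWith @IsOpenImmersion j ∧
      IsQuasiCompactMor j ∧ IsFiniteMor π := by
  have hqs := AlgSpDec.isQuasiSeparatedMor_of_isSeparatedMor hsep
  obtain ⟨Y', ν, f', hY', hUN⟩ := exists_isUN hX hY f hqc hqs
  obtain ⟨ho, hfc⟩ := repWith_isOpenImmersion_norm hX hY hqf hqc hsep hqs (hUN.isRelNormalization hY)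
  have hνr : Representable ν := (AlgSpDec.isIntegralMor_iff_repWith.1 hUN.integral).rep
  obtain ⟨U, u, hU, hue, hus⟩ := AlgSpDec.exists_affine_atlas hYc
  have : IsAffine U.left := hU
  let N := hνr.pullback u
  let νU : N ⟶ U := hνr.snd u
  let p : (yon S).obj N ⟶ Y' := hνr.fst u
  have sqp : IsPullback p ((yon S).map νU) ν u := hνr.isPullback u
  have : IsIntegralHom νU.left := (AlgSpDec.isIntegralMor_iff_repWith.1 hUN.integral).property _ _ _ sqp
  have : IsAffine N.left := isAffine_of_isAffineHom νU.left
  -- the source over the atlas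
  let V := ho.rep.pullback p
  let i : V ⟶ N := ho.rep.snd p
  let a : (yon S).obj V ⟶ X := ho.rep.fst p
  have sqi : IsPullback a ((yon S).map i) f' p := ho.rep.isPullback p
  have : IsOpenImmersion i.left := ho.property_snd p
  have : QuasiCompact i.left := hfc.property _ _ _ sqi
  have : CompactSpace V.left := QuasiCompact.compactSpace_of_compactSpace i.left
  have sqV : IsPullback a ((yon S).map (i ≫ νU)) f u := by
    rw [Functor.map_comp, ← hUN.fac]
    exact sqi.paste_vert sqp
  have hr := AlgSpDec.representable_of_lqf_separated hX hY f hqf hsep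
  have : LocallyOfFiniteType (i.left ≫ νU.left) := ((repWith_of_locP hY hr hqf).property _ _ _ sqV).2
  obtain ⟨gens, hgens⟩ := exists_gens i.left νU.left
  -- the relation
  let R := hue.rep.pullback u
  let t : R ⟶ U := (yon S).preimage (hue.rep.fst u)
  let s : R ⟶ U := hue.rep.snd u
  have sqR : IsPullback ((yon S).map t) ((yon S).map s) u u := by
    rw [Functor.map_preimage]
    exact hue.rep.isPullback u
  obtain ⟨N', b, q₀, hN', hb, hqb, hinj, hmem, hglue⟩ :=
    exists_finite_subalg hY hYc hYs hUN.integral hνr hue sqR gens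
  have := hN'
  have := isSTD_of_injective q₀.left hinj
  obtain ⟨T, π, h, q', hT, sqT, hhπ, hqh⟩ := exists_quot (u := u) (ν := ν) (q := p) (νU := νU) hY hY' hue hus sqR
    sqp b q₀ hqb (fun sN h₁ h₂ => by
      obtain ⟨m, s', hm₁, hm₂, hm₃⟩ := hglue sN h₁ h₂
      refine ⟨s', ?_⟩
      rw [← hm₃]
      congr 1
      refine pullback.hom_ext ?_ ?_
      · exact (pullback.lift_fst _ _ _).trans hm₁.symm
      · exact (pullback.lift_snd _ _ _).trans ((Category.comp_id _).trans hm₂.symm))
  have hio : IsOpenImmersion (i ≫ q₀).left := by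
    rw [Over.comp_left]
    exact hgens q₀.left b.left (by rw [← Over.comp_left, hqb]) hinj hmem
  have hqe : RepWith @Etale q' := repWith_of_isPullback sqT.flip hue
  have hqs' : RepWith @Surjective q' := repWith_of_isPullback sqT.flip hus
  have hp : RepWith fppf q' := ⟨hqe.rep, fun _ _ g fst snd sq => by
    have : Etale snd.left := hqe.property g fst snd sq
    have : Surjective snd.left := hqs'.property g fst snd sq
    exact fppf_of_etale snd.left⟩
  have sqj : IsPullback a ((yon S).map (i ≫ q₀)) (f' ≫ h) q' := by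
    refine IsPullback.of_bot ?_ ?_ sqT
    · rw [Category.assoc, hhπ, hUN.fac, ← Functor.map_comp, Category.assoc, hqb]
      exact sqV
    · rw [Functor.map_comp, Category.assoc, ← hqh, ← Category.assoc, sqi.w, Category.assoc]
  have hjo := AlgSpDec.Fppf.repWith_isOpenImmersion_of_fppf_cover hp sqj ((repWith_yon_map_iff _ _).2 hio)
  have := EtFound.fpqc_isFinite.{u}
  have hπ : RepWith @IsFinite π := AlgSpDec.Fppf.repWith_of_fppf_cover (P := @IsFinite)
    (fun _ _ e (_ : IsFinite e) => inferInstanceAs (IsAffineHom e))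
    (show RepWith fppf u from ⟨hue.rep, fun _ _ g fst snd sq => by
      have : Etale snd.left := hue.property g fst snd sq
      have : Surjective snd.left := hus.property g fst snd sq
      exact fppf_of_etale snd.left⟩) sqT ((repWith_yon_map_iff _ _).2 hb)
  refine ⟨T, f' ≫ h, π, hT, by rw [Category.assoc, hhπ, hUN.fac], hjo, ?_, AlgSpDec.isFiniteMor_iff_repWith.2 hπ⟩
  refine AlgSpPts.isQuasiCompactMor_of_repWith (of_comp_of_diagonal (RepWith @QuasiCompact) (f' ≫ h) π ?_ ?_)
  · rw [Category.assoc, hhπ, hUN.fac]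
    exact AlgSpPts.repWith_quasiCompact hr hqc
  · exact repWith_diagonal (P := @IsFinite) hπ fun g (_ : IsFinite g) =>
      inferInstanceAs (QuasiCompact (pullback.diagonal g))

end Groth.Agent.NormSp
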